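import Cfsg.Agent.Lib.Bender.TwoClosed.Tools
import Cfsg.Agent.Lib.Bender.OddCore.Base
import Cfsg.Agent.Lib.Bender.ConsReduce
import Cfsg.Prelude.Def_Transfer

/-!
Groups in which the centraliser of every involution has a normal 2-complement: the complements.

Blueprint: `blueprint/chz/S3214.md`.
-/

set_option autoImplicit false
set_option linter.unusedSectionVars false
set_option linter.style.haveILetI false

namespace CfsgLib.ChzTwoNil

open Cfsg Subgroup
open CfsgLib.Bender.TwoClosed (IsInv IsInv.inv IsInv.conj eq_one_of_two_odd)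

universe u

variable {G : Type u} [Group G]

/-- The centraliser of every involution has a normal 2-complement. -/
def NC (G : Type u) [Group G] : Prop :=
  ∀ t : G, orderOf t = 2 → Cfsg.HasNormalPComplement 2 ↥(Subgroup.centralizer ({t} : Set G))

/-- The subgroup generated by the elements of odd order commuting with `t`. -/
def th (t : G) : Subgroup G := Subgroup.closure {x | x * t = t * x ∧ Odd (orderOf x)}

theorem th_le (t : G) : th t ≤ centralizer ({t} : Set G) :=
  (Subgroup.closure_le _).mpr fun _ hx => mem_centralizer_singleton_iff.mpr hx.1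

theorem th_conj (g t : G) {x : G} (hx : x ∈ th t) : g * x * g⁻¹ ∈ th (g * t * g⁻¹) := by
  suffices h : th t ≤ (th (g * t * g⁻¹)).comap (MulAut.conj g).toMonoidHom from h hx
  refine (Subgroup.closure_le _).mpr fun y hy => Subgroup.subset_closure ⟨?_, ?_⟩
  · show g * y * g⁻¹ * (g * t * g⁻¹) = g * t * g⁻¹ * (g * y * g⁻¹)
    rw [conj_mul, conj_mul, hy.1]
  · show Odd (orderOf (g * y * g⁻¹))
    rw [CfsgLib.Involutions.orderOf_conj]
    exact hy.2

theorem th_normalised {t b : G} (hb : b * t = t * b) {x : G} (hx : x ∈ th t) : b * x * b⁻¹ ∈ th t := by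
  have h := th_conj b t hx
  rwa [hb, mul_inv_cancel_right] at h

theorem isInv_iff {t : G} : IsInv t ↔ orderOf t = 2 := by
  rw [CfsgLib.Involutions.orderOf_eq_two_iff']
  exact and_comm

variable [Finite G] (hN : NC G) {t : G}
include hN

theorem exists_complement (ht : IsInv t) : ∃ N : Subgroup (centralizer ({t} : Set G)), N.Normal ∧
    Odd (Nat.card N) ∧ ∃ k : ℕ, N.index = 2 ^ k := by
  haveI : Fact (Nat.Prime 2) := ⟨Nat.prime_two⟩
  obtain ⟨P, N, hNn, hc⟩ := hN t (isInv_iff.mp ht)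
  obtain ⟨k, hk⟩ := IsPGroup.iff_card.mp P.2
  refine ⟨N, hNn, Nat.not_even_iff_odd.mp fun he => P.not_dvd_index ?_, k, ?_⟩
  · rw [hc.index_eq_card]
    exact he.two_dvd
  · rw [← hk]
    exact hc.symm.index_eq_card

/-- The normal complement. -/
theorem th_eq (ht : IsInv t) : ∃ N : Subgroup (centralizer ({t} : Set G)), N.Normal ∧
    N.map (centralizer ({t} : Set G)).subtype = th t ∧ Odd (Nat.card N) ∧ ∃ k : ℕ, N.index = 2 ^ k := by
  obtain ⟨N, hNn, hodd, k, hk⟩ := exists_complement hN ht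
  refine ⟨N, hNn, le_antisymm ?_ ((Subgroup.closure_le _).mpr fun x hx => ?_), hodd, k, hk⟩
  · rintro _ ⟨y, hy, rfl⟩
    refine Subgroup.subset_closure ⟨mem_centralizer_singleton_iff.mp y.2, ?_⟩
    show Odd (orderOf (y : G))
    rw [Subgroup.orderOf_coe]
    exact hodd.of_dvd_nat (Subgroup.orderOf_dvd_natCard N hy)
  · refine ⟨⟨x, mem_centralizer_singleton_iff.mpr hx.1⟩, ?_, rfl⟩
    haveI := hNn
    have h1 := Subgroup.pow_index_mem N (⟨x, mem_centralizer_singleton_iff.mpr hx.1⟩ : centralizer ({t} : Set G))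
    rw [hk] at h1
    obtain ⟨e, he⟩ := exists_pow_eq_self_of_coprime (n := 2 ^ k) (x := x)
      ((Nat.coprime_two_left.mpr hx.2).pow_left k)
    have h2 := N.pow_mem h1 e
    rwa [show ((⟨x, mem_centralizer_singleton_iff.mpr hx.1⟩ : centralizer ({t} : Set G)) ^ 2 ^ k) ^ e =
      ⟨x, mem_centralizer_singleton_iff.mpr hx.1⟩ from Subtype.ext he] at h2

theorem odd_th (ht : IsInv t) : Odd (Nat.card (th t)) := by
  obtain ⟨N, -, he, hodd, -⟩ := th_eq hN ht
  rw [← he, Subgroup.card_map_of_injective (Subgroup.subtype_injective _)]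
  exact hodd

theorem mem_th (ht : IsInv t) {x : G} : x ∈ th t ↔ x * t = t * x ∧ Odd (orderOf x) :=
  ⟨fun hx => ⟨mem_centralizer_singleton_iff.mp (th_le t hx),
      (odd_th hN ht).of_dvd_nat (Subgroup.orderOf_dvd_natCard _ hx)⟩,
    fun hx => Subgroup.subset_closure hx⟩

theorem exists_pow_mem_th (ht : IsInv t) {x : G} (hx : x * t = t * x) : ∃ k : ℕ, x ^ 2 ^ k ∈ th t := by
  obtain ⟨N, hNn, he, -, k, hk⟩ := th_eq hN ht
  haveI := hNn
  refine ⟨k, ?_⟩
  have h1 := Subgroup.pow_index_mem N (⟨x, mem_centralizer_singleton_iff.mpr hx⟩ : centralizer ({t} : Set G))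
  rw [hk] at h1
  rw [← he]
  exact ⟨_, h1, rfl⟩

theorem solvable_th (ht : IsInv t) : Group.IsSolvable (th t) :=
  CfsgLib.Bender.solvable_of_odd (odd_th hN ht)

omit hN in
theorem sup_sylow_eq_top {C : Type*} [Group C] [Finite C] (N : Subgroup C) {k : ℕ} (hk : N.index = 2 ^ k)
    (P : Sylow 2 C) : N ⊔ (P : Subgroup C) = ⊤ := by
  haveI : Fact (Nat.Prime 2) := ⟨Nat.prime_two⟩
  have h1 : (N ⊔ (P : Subgroup C)).index ∣ 2 ^ k := hk ▸ Subgroup.index_dvd_of_le le_sup_left
  have h2 : (N ⊔ (P : Subgroup C)).index ∣ (P : Subgroup C).index := Subgroup.index_dvd_of_le le_sup_right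
  obtain ⟨j, -, hj⟩ := (Nat.dvd_prime_pow Nat.prime_two).mp h1
  refine Subgroup.index_eq_one.mp (hj.trans ?_)
  by_contra hne
  refine P.not_dvd_index ((dvd_pow_self 2 fun e => hne ?_).trans (hj ▸ h2))
  rw [e, pow_zero]

/-- The centraliser is the complement times any Sylow 2-subgroup. -/
theorem cent_le_sup (ht : IsInv t) {T : Subgroup G}
    (hT : CfsgLib.Bender.TwoClosed.MaxP 2 (centralizer ({t} : Set G)) T) :
    centralizer ({t} : Set G) ≤ th t ⊔ T := by
  obtain ⟨N, -, he, -, k, hk⟩ := th_eq hN ht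
  obtain ⟨P, hP⟩ := hT.sylow
  intro x hx
  have h3 : (⟨x, hx⟩ : centralizer ({t} : Set G)) ∈ N ⊔ (P : Subgroup (centralizer ({t} : Set G))) := by
    rw [sup_sylow_eq_top N hk P]
    exact Subgroup.mem_top _
  have h4 := Subgroup.mem_map_of_mem (centralizer ({t} : Set G)).subtype h3
  rw [Subgroup.map_sup, he, hP] at h4
  exact sup_le_sup_left (Subgroup.map_le_iff_le_comap.mpr le_rfl) _ h4

end CfsgLib.ChzTwoNil
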