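import Cfsg.Agent.Lib.ChzTwoNil.NoFactor
import Cfsg.Agent.Lib.CITQuot.Basic
import Cfsg.Agent.Lib.CoprimeGen
import Cfsg.Agent.S0200

/-!
A group with involution centralisers 2-groups, one class of involutions, two-rank at least three and an odd subgroup of
2-power index has a normal Sylow 2-subgroup.

Blueprint: `blueprint/chz/S3214.md`, step 4.
-/

set_option autoImplicit false
set_option linter.unusedSectionVars false
set_option linter.style.haveILetI false

namespace CfsgLib.ChzTwoNil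

open Cfsg Subgroup
open scoped Pointwise

universe u

variable {Y : Type u} [Group Y] [Finite Y]

theorem le_pCore_two {N : Subgroup Y} (hN : N.Normal) (h2 : IsPGroup 2 N) : N ≤ pCore 2 Y :=
  le_sSup (show N ∈ {N : Subgroup Y | N.Normal ∧ IsPGroup 2 N} from ⟨hN, h2⟩)

/-- An involution modulo a normal subgroup of odd order lifts to an involution. -/
theorem lift_involution {X : Type u} [Group X] [Finite X] (L : Subgroup X) [L.Normal] (hL : Odd (Nat.card L))
    {q : X ⧸ L} (hq : orderOf q = 2) : ∃ z : X, orderOf z = 2 ∧ QuotientGroup.mk' L z = q := by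
  obtain ⟨g, rfl⟩ := QuotientGroup.mk'_surjective L q
  obtain ⟨l, hl⟩ := hL
  have hg2 : QuotientGroup.mk' L g ^ 2 = 1 := hq ▸ pow_orderOf_eq_one _
  have hmem : g ^ 2 ∈ L := (QuotientGroup.eq_one_iff _).mp (by
    show QuotientGroup.mk' L (g ^ 2) = 1
    rw [map_pow, hg2])
  have hmap : QuotientGroup.mk' L (g ^ Nat.card L) = QuotientGroup.mk' L g := by
    rw [map_pow, hl, pow_succ, pow_mul, hg2, one_pow, one_mul]
  refine ⟨g ^ Nat.card L, orderOf_eq_prime ?_ fun e => ?_, hmap⟩
  · rw [← pow_mul, mul_comm, pow_mul]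
    exact congrArg Subtype.val (pow_card_eq_one' (x := (⟨_, hmem⟩ : L)))
  · rw [e, map_one] at hmap
    rw [← hmap, orderOf_one] at hq
    norm_num at hq

theorem odd_normal_eq_bot (hC : CITQuot.CIT Y) {U : Subgroup Y} (hU : IsFour U) {N : Subgroup Y} (hN : N.Normal)
    (hodd : Odd (Nat.card N)) : N = ⊥ := by
  haveI := isElementary_of_exp hU.2
  have hnc : ¬ IsCyclic U := fun hc => by
    obtain ⟨g, hg⟩ := hc.exists_ofOrder_eq_natCard
    have h2 : g ^ 2 = 1 := Subtype.ext (by simpa using hU.2 g g.2)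
    have h3 := Nat.le_of_dvd two_pos (orderOf_dvd_of_pow_eq_one h2)
    rw [hg, hU.1] at h3
    omega
  rw [← CfsgLib.coprime_generated_by_centralizers (A := U) (K := N) hnc
    (by rw [Subgroup.normalizer_eq_top_iff.mpr hN]; exact le_top)
    (by rw [hU.1]; exact (Nat.coprime_two_left.mpr hodd).pow_left 2)]
  refine le_bot_iff.mp (iSup₂_le fun a ha => fun x hx => Subgroup.mem_bot.mpr ?_)
  obtain ⟨k, hk⟩ := hC a (orderOf_eq_prime (hU.2 a ha.1) ha.2) ⟨x, hx.2⟩
  exact CIT.eq_one_of_odd_pow_two (hodd.of_dvd_nat (Subgroup.orderOf_dvd_natCard N hx.1))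
    (congrArg Subtype.val hk)

theorem exists_abelian_normal [Nontrivial Y] (hs : Group.IsSolvable Y) :
    ∃ A : Subgroup Y, A.Normal ∧ A ≠ ⊥ ∧ ∀ a ∈ A, ∀ b ∈ A, a * b = b * a := by
  classical
  obtain ⟨n, hn⟩ := hs.1
  have hex : ∃ n, derivedSeries Y n = ⊥ := ⟨n, hn⟩
  have h0 : Nat.find hex ≠ 0 := fun e => by
    have := Nat.find_spec hex
    rw [e, derivedSeries_zero] at this
    exact top_ne_bot this
  obtain ⟨m, hm⟩ := Nat.exists_eq_succ_of_ne_zero h0
  refine ⟨derivedSeries Y m, derivedSeries_normal Y m, Nat.find_min hex (by omega), ?_⟩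
  have h := Nat.find_spec hex
  rw [hm, derivedSeries_succ, Subgroup.commutator_eq_bot_iff_le_centralizer] at h
  exact fun a ha b hb => (Subgroup.mem_centralizer_iff.mp (h ha) b hb).symm

/-- The 2-closure. -/
theorem two_closed (hC : CITQuot.CIT Y) {E : Subgroup Y} (hE : IsEight E)
    (hcls : ∀ s t : Y, orderOf s = 2 → orderOf t = 2 → IsConj s t) {D : Subgroup Y} (hD : Odd (Nat.card D))
    {k : ℕ} (hk : D.index = 2 ^ k) : ∃ R : Subgroup Y, R.Normal ∧ IsPGroup 2 R ∧ Odd R.index := by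
  classical
  haveI : Fact (Nat.Prime 2) := ⟨Nat.prime_two⟩
  obtain ⟨e, heE, he1⟩ : ∃ e ∈ E, e ≠ 1 := by
    by_contra hh
    push Not at hh
    have := hE.1
    rw [(Subgroup.eq_bot_iff_forall _).mpr hh, Subgroup.card_bot] at this
    norm_num at this
  obtain ⟨U, hU, -, -⟩ := exists_four_of_le hE.2 (by rw [hE.1]; norm_num) heE he1
  have heo : orderOf e = 2 := orderOf_eq_prime (hE.2 e heE) he1
  haveI : Nontrivial Y := ⟨⟨e, 1, he1⟩⟩
  have hall : ∀ N : Subgroup Y, N.Normal → ∀ w ∈ N, orderOf w = 2 → ∀ x : Y, orderOf x = 2 → x ∈ N :=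
    fun N hN w hw hwo x hx => by
      obtain ⟨c, hc⟩ := isConj_iff.mp (hcls w x hwo hx)
      exact hc ▸ hN.conj_mem w hw c
  have hR0 : pCore 2 Y ≠ ⊥ := by
    intro h0
    by_cases hs : Group.IsSolvable Y
    · obtain ⟨A, hAn, hA0, hAc⟩ := exists_abelian_normal hs
      let B : Subgroup Y :=
        { carrier := {x | x ∈ A ∧ x ^ 2 = 1}
          one_mem' := ⟨A.one_mem, one_pow 2⟩
          mul_mem' := fun {a b} ha hb => ⟨A.mul_mem ha.1 hb.1, by
            rw [Commute.mul_pow (hAc a ha.1 b hb.1), ha.2, hb.2, one_mul]⟩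
          inv_mem' := fun {a} ha => ⟨A.inv_mem ha.1, by rw [inv_pow, ha.2, inv_one]⟩ }
      have hBn : B.Normal :=
        ⟨fun x hx g => ⟨hAn.conj_mem x hx.1 g, by rw [conj_pow, hx.2, mul_one, mul_inv_cancel]⟩⟩
      by_cases hB : B = ⊥
      · refine hA0 (odd_normal_eq_bot hC hU hAn (Nat.not_even_iff_odd.mp fun he => ?_))
        obtain ⟨a, ha⟩ := exists_prime_orderOf_dvd_card' (G := A) 2 he.two_dvd
        have haB : (a : Y) ∈ B := ⟨a.2, by rw [← Subgroup.orderOf_coe] at ha; rw [← ha, pow_orderOf_eq_one]⟩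
        rw [hB, Subgroup.mem_bot] at haB
        rw [← Subgroup.orderOf_coe, haB, orderOf_one] at ha
        norm_num at ha
      · exact hB (le_bot_iff.mp (h0 ▸ le_pCore_two hBn (isPGroup_of_exp fun x hx => hx.2)))
    · obtain ⟨M, hMn, hMs, hMc⟩ := CITQuot.exists_simple hC hs h0
      haveI := hMs
      have hna : ∃ a b : M, a * b ≠ b * a := by
        by_contra hh
        push Not at hh
        exact hMc ⟨⟨hh⟩⟩
      obtain ⟨w, hw⟩ : ∃ w : M, orderOf w = 2 := by
        refine exists_prime_orderOf_dvd_card' (G := M) 2 (CITQuot.two_dvd_card ?_)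
        intro hsol
        exact hMc (IsSimpleGroup.comm_iff_isSolvable.mpr hsol |> fun h => ⟨⟨h⟩⟩)
      rw [← Subgroup.orderOf_coe] at hw
      have hEM : E ≤ M := fun x hx => by
        rcases eq_or_ne x 1 with rfl | hx1
        · exact M.one_mem
        · exact hall M hMn w w.2 hw x (orderOf_eq_prime (hE.2 x hx) hx1)
      have hE' : IsEight (E.subgroupOf M) :=
        ⟨by rw [Nat.card_congr (Subgroup.subgroupOfEquivOfLe hEM).toEquiv, hE.1],
          fun x hx => Subtype.ext (hE.2 _ hx)⟩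
      have hidx : (D.subgroupOf M).index ∣ D.index := by
        have h2 : D.relIndex M = D.relIndex (D ⊔ M) := by
          haveI := hMn
          unfold Subgroup.relIndex Subgroup.index
          refine Nat.card_eq_of_bijective
            (Quotient.map' (Subgroup.inclusion (le_sup_right : M ≤ D ⊔ M)) fun a b h => ?_) ⟨?_, ?_⟩
          · rw [QuotientGroup.leftRel_apply] at h ⊢
            exact h
          · intro a b h
            induction a using Quotient.inductionOn' with | h a =>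
            induction b using Quotient.inductionOn' with | h b =>
            rw [Quotient.map'_mk'', Quotient.map'_mk'', Quotient.eq'', QuotientGroup.leftRel_apply] at h
            exact Quotient.sound' (QuotientGroup.leftRel_apply.mpr h)
          · intro y
            induction y using Quotient.inductionOn' with | h y =>
            have hy : (y : Y) ∈ ((M ⊔ D : Subgroup Y) : Set Y) := by rw [sup_comm]; exact y.2
            rw [Subgroup.normal_mul] at hy
            obtain ⟨m, hm, d, hd, hmd⟩ := Set.mem_mul.mp hy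
            refine ⟨Quotient.mk'' ⟨m, hm⟩, ?_⟩
            rw [Quotient.map'_mk'', Quotient.eq'', QuotientGroup.leftRel_apply, Subgroup.mem_subgroupOf]
            show (m : Y)⁻¹ * y ∈ D
            rw [← hmd, inv_mul_cancel_left]
            exact hd
        show D.relIndex M ∣ D.index
        rw [h2]
        exact Dvd.intro _ (Subgroup.relIndex_mul_index le_sup_left)
      obtain ⟨j, -, hj⟩ := (Nat.dvd_prime_pow Nat.prime_two).mp (hk ▸ hidx)
      exact no_factor hna (CIT.IsCIT.subgroup hC M) hE' (D := D.subgroupOf M)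
        (hD.of_dvd_nat (Subgroup.card_comap_dvd_of_injective D M.subtype M.subtype_injective)) hj
  haveI : (pCore 2 Y).Normal := inferInstance
  have hR2 : IsPGroup 2 (pCore 2 Y) := CfsgLib.isPGroup_pCore 2
  refine ⟨pCore 2 Y, inferInstance, hR2, Nat.not_even_iff_odd.mp fun he => ?_⟩
  obtain ⟨w, hw, hwo⟩ := CIT.exists_orderOf_two_mem hR2 hR0
  rw [Subgroup.index_eq_card] at he
  obtain ⟨s, hs⟩ := exists_prime_orderOf_dvd_card' (G := Y ⧸ pCore 2 Y) 2 he.two_dvd
  obtain ⟨h, hh1, hhodd, hinv⟩ := Cfsg.Agent.S0200.result s hs fun N hN h2 hsN => by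
    have h3 := le_pCore_two hN h2 hsN
    rw [CfsgLib.ZJ.pCore_quotient_pCore_eq_bot, Subgroup.mem_bot] at h3
    rw [h3, orderOf_one] at hs
    norm_num at hs
  -- make the inverted element of prime order
  obtain ⟨p, hp, hpd⟩ := Nat.exists_prime_and_dvd (n := orderOf h) fun e => hh1 (orderOf_eq_one_iff.mp e)
  have hp2 : p ≠ 2 := fun e => Nat.not_even_iff_odd.mpr hhodd (even_iff_two_dvd.mpr (e ▸ hpd))
  set h' := h ^ (orderOf h / p) with hh'
  have hh'o : orderOf h' = p := orderOf_pow_orderOf_div (orderOf_pos h).ne' hpd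
  have hinv' : s * h' * s⁻¹ = h'⁻¹ := by rw [hh', ← conj_pow, hinv, inv_pow]
  obtain ⟨g, hg⟩ := QuotientGroup.mk'_surjective (pCore 2 Y) h'
  obtain ⟨i, c, hc, hgc⟩ := Nat.exists_eq_pow_mul_and_not_dvd (orderOf_pos g).ne' 2 (by norm_num)
  set x := g ^ 2 ^ i with hx
  have hxo : orderOf x = p := by
    have h1 : orderOf x ∣ c := orderOf_dvd_of_pow_eq_one (by rw [hx, ← pow_mul, ← hgc, pow_orderOf_eq_one])
    have h2 : orderOf x ∣ p := by
      refine orderOf_dvd_of_pow_eq_one ?_
      have hm : x ^ p ∈ pCore 2 Y := (QuotientGroup.eq_one_iff _).mp (by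
        show QuotientGroup.mk' (pCore 2 Y) (x ^ p) = 1
        rw [hx, map_pow, map_pow, hg, ← pow_mul, mul_comm, pow_mul, ← hh'o, pow_orderOf_eq_one, one_pow])
      exact CIT.eq_one_of_mem_two_group hR2 hm
        ((Nat.odd_iff.mpr (Nat.two_dvd_ne_zero.mp hc)).of_dvd_nat ((orderOf_pow_dvd p).trans h1))
    refine ((Nat.dvd_prime hp).mp h2).resolve_left fun e => ?_
    have h4 : h' ^ 2 ^ i = 1 := by rw [← hg, ← map_pow, ← hx, orderOf_eq_one_iff.mp e, map_one]
    have := orderOf_dvd_of_pow_eq_one h4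
    rw [hh'o] at this
    exact hp2 ((Nat.prime_dvd_prime_iff_eq hp Nat.prime_two).mp (hp.dvd_of_dvd_pow this))
  obtain ⟨t, ht⟩ := QuotientGroup.mk'_surjective (pCore 2 Y) s
  have hnorm : ∀ y : Y, y ∈ Subgroup.normalizer ((pCore 2 Y : Subgroup Y) : Set Y) := fun y =>
    (Subgroup.normalizer_eq_top_iff.mpr (inferInstance : (pCore 2 Y).Normal)).ge (Subgroup.mem_top y)
  obtain ⟨d, hd, hdt⟩ := CIT.exists_normalizing hR2 hp hp2 hxo (hnorm x) (-1) (t := t) ((QuotientGroup.eq_one_iff _).mp (by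
    show QuotientGroup.mk' (pCore 2 Y) (t * x * t⁻¹ * (x ^ (-1 : ℤ))⁻¹) = 1
    rw [map_mul, map_mul, map_mul, map_inv, map_inv, map_zpow, ht, hx, map_pow, hg, ← conj_pow, hinv',
      zpow_neg_one, inv_inv, inv_pow, inv_mul_cancel])) (hnorm t)
  set v := d * t with hv
  have hvs : QuotientGroup.mk' (pCore 2 Y) v = s := by
    rw [hv, map_mul, show QuotientGroup.mk' (pCore 2 Y) d = 1 from (QuotientGroup.eq_one_iff d).mpr hd, one_mul, ht]
  have hv2 : v * v ∈ pCore 2 Y := (QuotientGroup.eq_one_iff _).mp (by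
    show QuotientGroup.mk' (pCore 2 Y) (v * v) = 1
    rw [map_mul, hvs, ← pow_two]
    exact orderOf_dvd_iff_pow_eq_one.mp hs.dvd)
  have hcomm : x * (v * v) = v * v * x := by
    rw [zpow_neg_one] at hdt
    have h1 : v * x⁻¹ * v⁻¹ = x := by
      calc v * x⁻¹ * v⁻¹ = (v * x * v⁻¹)⁻¹ := by group
        _ = x := by rw [hdt, inv_inv]
    calc x * (v * v) = v * x⁻¹ * v⁻¹ * (v * v) := by rw [h1]
      _ = v * (v * x * v⁻¹) * v := by rw [hdt]; group
      _ = v * v * x := by group
  have hxodd : Odd (orderOf x) := hxo ▸ hp.odd_of_ne_two hp2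
  have hvv : v * v = 1 := CIT.IsCIT.fpf_mem hC hR2 hxodd (fun e => hp.ne_one (by rw [← hxo, e, orderOf_one])) hv2 hcomm
  have hs1 : s ≠ 1 := fun e => by rw [e, orderOf_one] at hs; norm_num at hs
  have hv1 : v ≠ 1 := fun e => hs1 (by rw [← hvs, e, map_one])
  have hvR : v ∈ pCore 2 Y := hall _ inferInstance w hw hwo v (orderOf_eq_prime (by rw [pow_two, hvv]) hv1)
  exact hs1 (by rw [← hvs]; exact (QuotientGroup.eq_one_iff v).mpr hvR)

end CfsgLib.ChzTwoNil
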