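import Cfsg.Agent.Lib.RankThreeCentralizer
import Cfsg.Agent.S1190
import Cfsg.Prelude.Def_CaseTheorems

/-!
Elementary abelian subgroups of order four and eight.
-/

set_option autoImplicit false
set_option linter.unusedSectionVars false
set_option linter.style.haveILetI false

namespace CfsgLib.ChzTwoNil

open Cfsg Subgroup

universe u

variable {G : Type u} [Group G]

/-- An elementary abelian group of order eight, given by its exponent. -/
def IsEight (A : Subgroup G) : Prop := Nat.card A = 8 ∧ ∀ a ∈ A, a ^ 2 = 1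

/-- An elementary abelian group of order four, given by its exponent. -/
def IsFour (A : Subgroup G) : Prop := Nat.card A = 4 ∧ ∀ a ∈ A, a ^ 2 = 1

theorem comm_of_exp {A : Subgroup G} (hA : ∀ a ∈ A, a ^ 2 = 1) {a b : G} (ha : a ∈ A) (hb : b ∈ A) :
    a * b = b * a := by
  have h1 : a⁻¹ = a := inv_eq_of_mul_eq_one_right (by rw [← pow_two, hA a ha])
  have h2 : b⁻¹ = b := inv_eq_of_mul_eq_one_right (by rw [← pow_two, hA b hb])
  have h3 : (a * b)⁻¹ = a * b := inv_eq_of_mul_eq_one_right (by rw [← pow_two, hA _ (mul_mem ha hb)])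
  rw [← h3, mul_inv_rev, h1, h2]

theorem isElementary_of_exp {A : Subgroup G} (hA : ∀ a ∈ A, a ^ 2 = 1) : IsMulCommutative A :=
  ⟨⟨fun a b => Subtype.ext (comm_of_exp hA a.2 b.2)⟩⟩

theorem isPGroup_of_exp {A : Subgroup G} (hA : ∀ a ∈ A, a ^ 2 = 1) : IsPGroup 2 A :=
  fun a => ⟨1, Subtype.ext (by simpa using hA a a.2)⟩

theorem IsEight.map (A : Subgroup G) (h : IsEight A) (g : G) : IsEight (A.map (MulAut.conj g).toMonoidHom) := by
  refine ⟨by rw [Subgroup.card_map_of_injective (MulAut.conj g).injective, h.1], ?_⟩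
  rintro _ ⟨a, ha, rfl⟩
  rw [← map_pow, h.2 a ha, map_one]

/-- Adjoining a commuting involution to a subgroup of exponent two. -/
theorem exists_double [Finite G] (U : Subgroup G) (hU : ∀ u ∈ U, u ^ 2 = 1) {v : G} (hv : v ^ 2 = 1)
    (hvU : v ∉ U) (hc : ∀ u ∈ U, u * v = v * u) :
    ∃ A : Subgroup G, U ≤ A ∧ v ∈ A ∧ Nat.card A = 2 * Nat.card U ∧ (∀ a ∈ A, a ^ 2 = 1) ∧
      ∀ a ∈ A, a ∈ U ∨ a * v ∈ U := by
  have hvv : v * v = 1 := by rw [← pow_two, hv]
  let A : Subgroup G :=
    { carrier := {y | y ∈ U ∨ y * v ∈ U}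
      one_mem' := Or.inl U.one_mem
      mul_mem' := by
        rintro a b (ha | ha) (hb | hb)
        · exact Or.inl (mul_mem ha hb)
        · exact Or.inr (by rw [mul_assoc]; exact mul_mem ha hb)
        · refine Or.inr ?_
          rw [mul_assoc, hc b hb, ← mul_assoc]
          exact mul_mem ha hb
        · refine Or.inl ?_
          have h2 : a * b = a * v * (b * v) := by
            rw [mul_assoc a v, ← hc _ hb, mul_assoc b, hvv, mul_one]
          exact h2 ▸ mul_mem ha hb
      inv_mem' := by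
        rintro a (ha | ha)
        · exact Or.inl (inv_mem ha)
        · refine Or.inr ?_
          have h1 := inv_mem ha
          have h2 : a⁻¹ * v = (a * v)⁻¹ := by
            conv_lhs => rw [show a⁻¹ = v * (a * v)⁻¹ by group]
            rw [mul_assoc, hc _ h1, ← mul_assoc, hvv, one_mul]
          rwa [h2] }
  have hUA : U ≤ A := fun y hy => Or.inl hy
  have hvA : v ∈ A := Or.inr (by rw [hvv]; exact U.one_mem)
  refine ⟨A, hUA, hvA, ?_, ?_, fun a ha => ha⟩
  · have hidx : U.relIndex A = 2 := by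
      rw [Subgroup.relIndex, Subgroup.index_eq_two_iff]
      refine ⟨⟨v, hvA⟩, fun b => ?_⟩
      by_cases hb : (b : G) ∈ U
      · exact Or.inr ⟨hb, fun h => hvU (by simpa using U.mul_mem (U.inv_mem hb) h)⟩
      · exact Or.inl ⟨(show (b : G) ∈ U ∨ (b : G) * v ∈ U from b.2).resolve_left hb, hb⟩
    rw [← Subgroup.relIndex_bot_left, ← Subgroup.relIndex_bot_left,
      ← Subgroup.relIndex_mul_relIndex ⊥ U A bot_le hUA, hidx, mul_comm]
  · rintro a (ha | ha)
    · exact hU a ha
    · have h1 : a = a * v * v := by rw [mul_assoc, hvv, mul_one]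
      rw [h1, Commute.mul_pow (hc _ ha), hU _ ha, hv, one_mul]

theorem exists_eight [Finite G] {U : Subgroup G} (hU : IsFour U) {v : G} (hv : v ^ 2 = 1) (hvU : v ∉ U)
    (hc : ∀ u ∈ U, u * v = v * u) :
    ∃ A : Subgroup G, U ≤ A ∧ v ∈ A ∧ IsEight A ∧ ∀ a ∈ A, a ∈ U ∨ a * v ∈ U := by
  obtain ⟨A, h1, h2, h3, h4, h5⟩ := exists_double U hU.2 hv hvU hc
  exact ⟨A, h1, h2, ⟨by rw [h3, hU.1], h4⟩, h5⟩

theorem exists_four [Finite G] {x y : G} (hx : x ^ 2 = 1) (hy : y ^ 2 = 1) (hx1 : x ≠ 1) (hy1 : y ≠ 1)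
    (hne : x ≠ y) (hc : x * y = y * x) :
    ∃ U : Subgroup G, IsFour U ∧ x ∈ U ∧ y ∈ U ∧ ∀ a ∈ U, a = 1 ∨ a = x ∨ a = y ∨ a = x * y := by
  have hxy : ∀ a ∈ Subgroup.zpowers x, a = 1 ∨ a = x := by
    intro a ha
    obtain ⟨k, rfl⟩ := Subgroup.mem_zpowers_iff.mp ha
    have hxx : x ^ (2 : ℤ) = 1 := by rw [zpow_two, ← pow_two, hx]
    rcases Int.even_or_odd k with ⟨l, rfl⟩ | ⟨l, rfl⟩
    · left
      rw [← two_mul, zpow_mul, hxx, one_zpow]
    · right
      rw [_root_.zpow_add, zpow_mul, hxx, one_zpow, one_mul, zpow_one]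
  have hU : ∀ a ∈ Subgroup.zpowers x, a ^ 2 = 1 := fun a ha => by
    rcases hxy a ha with rfl | rfl
    exacts [one_pow 2, hx]
  have hyU : y ∉ Subgroup.zpowers x := fun h => by rcases hxy y h with e | e <;> [exact hy1 e; exact hne e.symm]
  obtain ⟨A, h1, h2, h3, h4, h5⟩ := exists_double _ hU hy hyU fun a ha => by
    rcases hxy a ha with rfl | rfl
    exacts [by rw [one_mul, mul_one], hc]
  have h2x : orderOf x = 2 := orderOf_eq_prime hx hx1
  refine ⟨A, ⟨by rw [h3, Nat.card_zpowers, h2x], h4⟩, h1 (Subgroup.mem_zpowers x), h2, fun a ha => ?_⟩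
  have hyy : y * y = 1 := by rw [← pow_two, hy]
  rcases h5 a ha with h | h
  · rcases hxy a h with e | e
    exacts [Or.inl e, Or.inr (Or.inl e)]
  · rcases hxy _ h with e | e
    · exact Or.inr (Or.inr (Or.inl (by rw [mul_eq_one_iff_eq_inv, inv_eq_of_mul_eq_one_right hyy] at e; exact e)))
    · refine Or.inr (Or.inr (Or.inr ?_))
      calc a = a * y * y := by rw [mul_assoc, hyy, mul_one]
        _ = x * y := by rw [e]

theorem exists_four_of_le [Finite G] {A : Subgroup G} (hA : ∀ a ∈ A, a ^ 2 = 1) (h4 : 4 ≤ Nat.card A) {x : G}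
    (hx : x ∈ A) (hx1 : x ≠ 1) : ∃ U : Subgroup G, IsFour U ∧ U ≤ A ∧ x ∈ U := by
  obtain ⟨y, hy, hy1, hne⟩ : ∃ y ∈ A, y ≠ 1 ∧ y ≠ x := by
    by_contra h
    push Not at h
    have hsub : (A : Set G) ⊆ {1, x} := fun y hy => by
      by_cases h1 : y = 1
      · exact Or.inl h1
      · exact Or.inr (h y hy h1)
    have := (Set.ncard_le_ncard hsub (Set.toFinite _)).trans (Set.ncard_insert_le _ _)
    rw [← Nat.card_coe_set_eq, Set.ncard_singleton] at this
    exact absurd (h4.trans this) (by norm_num)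
  obtain ⟨U, hU, hxU, hyU, hmem⟩ := exists_four (hA x hx) (hA y hy) hx1 hy1 hne.symm (comm_of_exp hA hx hy)
  refine ⟨U, hU, fun a ha => ?_, hxU⟩
  rcases hmem a ha with rfl | rfl | rfl | rfl
  exacts [A.one_mem, hx, hy, A.mul_mem hx hy]

/-- Two-rank three gives an elementary abelian subgroup of order eight. -/
theorem exists_eight_of_rank [Finite G] (h : ¬ PRankLE 2 2 G) : ∃ E : Subgroup G, IsEight E := by
  haveI : Fact (Nat.Prime 2) := ⟨Nat.prime_two⟩
  rw [PRankLE] at h
  push Not at h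
  obtain ⟨A, -, hA2, hAc⟩ := h
  obtain ⟨k, hk⟩ := IsPGroup.iff_card.mp (isPGroup_of_exp hA2)
  have h3 : 3 ≤ k := by
    by_contra hlt
    have : 2 ^ k ≤ 2 ^ 2 := Nat.pow_le_pow_right (by norm_num) (by omega)
    omega
  obtain ⟨K, hK⟩ := Sylow.exists_subgroup_card_pow_prime (G := A) 2 (n := 3)
    (by rw [hk]; exact pow_dvd_pow 2 h3)
  refine ⟨K.map A.subtype, by rw [Subgroup.card_map_of_injective A.subtype_injective, hK]; norm_num, ?_⟩
  rintro _ ⟨a, -, rfl⟩
  exact hA2 a a.2

/-- A dihedral group has no elementary abelian subgroup of order eight. -/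
theorem no_eight_dihedral {n : ℕ} [Finite G] (e : G ≃* DihedralGroup n) {A : Subgroup G} (hA : IsEight A) :
    False := by
  obtain ⟨hc, h2⟩ := hA
  rcases eq_or_ne n 0 with rfl | hn
  · haveI : Finite (DihedralGroup 0) := Finite.of_equiv G e.toEquiv
    haveI : Infinite (ZMod 0) := inferInstanceAs (Infinite ℤ)
    exact not_finite (DihedralGroup 0)
  haveI : NeZero n := ⟨hn⟩
  set B : Subgroup (DihedralGroup n) := A.map e.toMonoidHom with hB
  have hB2 : ∀ b ∈ B, b * b = 1 := by
    rintro _ ⟨a, ha, rfl⟩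
    rw [← map_mul, ← pow_two, h2 a ha, map_one]
  have hBc : Nat.card B = 8 := by rw [hB, Subgroup.card_map_of_injective e.injective, hc]
  haveI : Fintype (DihedralGroup n) := Fintype.ofFinite _
  -- at most two rotations
  have hrot : ({b | b ∈ B ∧ ∃ i : ZMod n, b = DihedralGroup.r i} : Set (DihedralGroup n)).ncard ≤ 2 := by
    refine le_trans ?_ (Set.ncard_insert_le (DihedralGroup.r (0 : ZMod n))
      {DihedralGroup.r ((n / 2 : ℕ) : ZMod n)}) |>.trans (by rw [Set.ncard_singleton])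
    refine Set.ncard_le_ncard (fun b => ?_) (Set.toFinite _)
    rintro ⟨hb, i, rfl⟩
    have h := hB2 _ hb
    rw [DihedralGroup.r_mul_r, DihedralGroup.one_def, DihedralGroup.r.injEq] at h
    have hv : (i.val + i.val : ℕ) % n = 0 := by
      rw [← ZMod.val_add, h, ZMod.val_zero]
    obtain ⟨c, hc'⟩ := Nat.dvd_of_mod_eq_zero hv
    have hlt := ZMod.val_lt i
    have hc2 : c < 2 := by
      by_contra hge
      have : n * 2 ≤ n * c := Nat.mul_le_mul_left n (by omega)
      omega
    interval_cases c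
    · left
      rw [← ZMod.natCast_zmod_val i, show i.val = 0 by omega, Nat.cast_zero]
    · right
      rw [Set.mem_singleton_iff, show n / 2 = i.val by omega, ZMod.natCast_zmod_val]
  -- a reflection multiplies the others into rotations
  have hall : (B : Set (DihedralGroup n)).ncard ≤ 4 := by
    by_cases hs : ∃ j : ZMod n, DihedralGroup.sr j ∈ B
    · obtain ⟨j, hj⟩ := hs
      set R : Set (DihedralGroup n) := {b | b ∈ B ∧ ∃ i : ZMod n, b = DihedralGroup.r i}
      have hsub : (B : Set (DihedralGroup n)) ⊆ R ∪ (fun b => DihedralGroup.sr j * b) '' R := by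
        intro b hb
        cases b with
        | r i => exact Or.inl ⟨hb, i, rfl⟩
        | sr i =>
          refine Or.inr ⟨DihedralGroup.sr j * DihedralGroup.sr i, ⟨B.mul_mem hj hb, _, DihedralGroup.sr_mul_sr j i⟩, ?_⟩
          show DihedralGroup.sr j * (DihedralGroup.sr j * DihedralGroup.sr i) = DihedralGroup.sr i
          rw [← mul_assoc, hB2 _ hj, one_mul]
      refine (Set.ncard_le_ncard hsub (Set.toFinite _)).trans ((Set.ncard_union_le _ _).trans ?_)
      have := (Set.ncard_image_le (f := fun b => DihedralGroup.sr j * b) (Set.toFinite R)).trans hrot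
      omega
    · push Not at hs
      refine (Set.ncard_le_ncard (fun b hb => ?_) (Set.toFinite _)).trans (hrot.trans (by norm_num))
      cases b with
      | r i => exact ⟨hb, i, rfl⟩
      | sr i => exact absurd hb (hs i)
  rw [← Nat.card_coe_set_eq] at hall
  change Nat.card B ≤ 4 at hall
  omega

/-- A quasi-dihedral group has no elementary abelian subgroup of order eight. -/
theorem no_eight_quasi [Finite G] (h : IsQuasiDihedral G) {A : Subgroup G} (hA : IsEight A) : False := by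
  obtain ⟨hc, h2⟩ := hA
  obtain ⟨a, ha, ha1⟩ : ∃ a ∈ A, a ≠ 1 := by
    by_contra hh
    push Not at hh
    rw [(Subgroup.eq_bot_iff_forall A).mpr hh, Subgroup.card_bot] at hc
    norm_num at hc
  obtain ⟨U, ⟨hU4, hU2⟩, hUA, haU⟩ := exists_four_of_le h2 (by omega) ha ha1
  have hK : IsKleinFour U := by
    refine ⟨hU4, ?_⟩
    refine (Nat.dvd_prime Nat.prime_two).mp (Monoid.exponent_dvd_of_forall_pow_eq_one fun x => Subtype.ext (by
      simpa using hU2 x x.2)) |>.resolve_left fun he => ?_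
    have := Monoid.pow_exponent_eq_one (⟨a, haU⟩ : U)
    rw [he, pow_one] at this
    exact ha1 (congrArg Subtype.val this)
  have hcen := ((Cfsg.Agent.S1190.result h).2 U hK).1
  have : A ≤ U := fun x hx => by
    rw [← hcen]
    exact Subgroup.mem_centralizer_iff.mpr fun u hu => comm_of_exp h2 (hUA hu) hx
  have := Subgroup.card_le_of_le this
  omega

end CfsgLib.ChzTwoNil
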