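import Cfsg.Agent.Lib.ChzTwoNil.Functor
import Cfsg.Agent.Lib.ChzTwoNil.Closed
import Cfsg.Agent.Lib.Bender.OddCore.Final
import Cfsg.Agent.Lib.TwoFusion.StrongEmb

/-!
The subgroup generated by the complements is trivial: otherwise its normaliser is strongly embedded and 2-closed modulo
an odd core containing the odd elements centralising involutions.

Blueprint: `blueprint/chz/S3214.md`, steps 3 to 5.
-/

set_option autoImplicit false
set_option linter.unusedSectionVars false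
set_option linter.style.haveILetI false

namespace CfsgLib.ChzTwoNil

open Cfsg Subgroup
open CfsgLib.Bender.TwoClosed (IsInv IsInv.inv IsInv.conj mem_normalizer_of_conj conj_mem_of_normalizer)

universe u

variable {G : Type u} [Group G] [Finite G]

/-- The quotient of the normaliser by the core is 2-closed. -/
theorem exists_middle (hN : NC G) (hno : ∀ H : Subgroup G, H.index ≠ 2) {S U : Subgroup G} {z : G}
    (hF : Frame S U z) (hne : Subgroup.normalizer (sig U : Set G) ≠ ⊤) :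
    ∃ M : Subgroup G, sig U ≤ M ∧ M ≤ Subgroup.normalizer (sig U : Set G) ∧
      (∀ h ∈ Subgroup.normalizer (sig U : Set G), ∀ x ∈ M, h * x * h⁻¹ ∈ M) ∧
      (∀ x ∈ M, ∃ k : ℕ, x ^ 2 ^ k ∈ sig U) ∧
      ∀ t g : G, IsInv t → t ∈ Subgroup.normalizer (sig U : Set G) → g * t = t * g → g ∈ M := by
  classical
  haveI : Fact (Nat.Prime 2) := ⟨Nat.prime_two⟩
  set W := sig U with hW
  set H := Subgroup.normalizer (W : Set G) with hH
  have hWH : W ≤ H := Subgroup.le_normalizer
  have hse := strongly hN hF hno hne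
  have hWodd : Odd (Nat.card W) := odd_sig hN hF
  haveI hn : (W.subgroupOf H).Normal := ⟨fun x hx g => by
    rw [Subgroup.mem_subgroupOf] at hx ⊢
    exact conj_mem_of_normalizer (show (g : G) ∈ Subgroup.normalizer (W : Set G) from g.2) hx⟩
  have hLodd : Odd (Nat.card (W.subgroupOf H)) := by
    rwa [Nat.card_congr (Subgroup.subgroupOfEquivOfLe hWH).toEquiv]
  set π := QuotientGroup.mk' (W.subgroupOf H) with hπ
  have hinvH : ∀ {t : H}, orderOf t = 2 → IsInv (t : G) := fun {t} ht =>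
    isInv_iff.mpr ((Subgroup.orderOf_coe t).trans ht)
  have hC : CITQuot.CIT (H ⧸ W.subgroupOf H) := by
    intro q hq
    obtain ⟨t, ht, rfl⟩ := lift_involution _ hLodd hq
    rintro ⟨y, hy⟩
    obtain ⟨g, rfl⟩ := QuotientGroup.mk'_surjective _ y
    have hti := hinvH ht
    set w : G := (g : G)⁻¹ * t * g * t with hw
    have hwW : w ∈ W := by
      have h1 : g⁻¹ * t * g * t ∈ W.subgroupOf H := (QuotientGroup.eq_one_iff _).mp (by
        show π (g⁻¹ * t * g * t) = 1
        rw [map_mul, map_mul, map_mul, map_inv, mul_assoc (π g)⁻¹ (π t) (π g),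
          ← mem_centralizer_singleton_iff.mp hy, ← mul_assoc, inv_mul_cancel, one_mul, ← map_mul,
          show t * t = 1 from Subtype.ext hti.2, map_one])
      exact h1
    obtain ⟨v, hv, hvt⟩ := CfsgLib.Bender.OddCore.exists_cent (g := (g : G)) hti
      (hWodd.of_dvd_nat (Subgroup.orderOf_dvd_natCard W hwW))
    have hvW : v ∈ W := Subgroup.zpowers_le.mpr hwW hv
    obtain ⟨k, hk⟩ := exists_pow_mem_th hN hti hvt
    refine ⟨k, Subtype.ext ?_⟩
    show π g ^ 2 ^ k = 1
    have h1 : π (g * ⟨v, hWH hvW⟩) = π g := by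
      rw [map_mul, show π (⟨v, hWH hvW⟩ : H) = 1 from
        (QuotientGroup.eq_one_iff (⟨v, hWH hvW⟩ : H)).mpr hvW, mul_one]
    rw [← h1, ← map_pow]
    refine (QuotientGroup.eq_one_iff _).mpr ?_
    show (((g * ⟨v, hWH hvW⟩ : H) ^ 2 ^ k : H) : G) ∈ W
    exact (inv_data hN hF hno hti t.2).1 hk
  obtain ⟨u, hu, huH⟩ : ∃ u : G, orderOf u = 2 ∧ u ∉ H := by
    obtain ⟨g, hg⟩ : ∃ g : G, g ∉ H := by
      by_contra hh
      push Not at hh
      exact hne ((Subgroup.eq_top_iff' _).mpr hh)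
    refine ⟨g * z * g⁻¹, by rw [CfsgLib.Involutions.orderOf_conj]; exact isInv_iff.mp hF.inv, fun hm => hg ?_⟩
    exact StrongEmb.mem_of_conj hse (normalised hN hF (hF.le hF.mem)) (isInv_iff.mp hF.inv) hm
  have hHu : Odd (Nat.card ↥(H ⊓ H.map (MulAut.conj u).toMonoidHom)) := hse.2.2 u huH
  set D : Subgroup (H ⧸ W.subgroupOf H) :=
    ((H ⊓ H.map (MulAut.conj u).toMonoidHom).subgroupOf H).map π with hD
  have hDodd : Odd (Nat.card D) := hHu.of_dvd_nat ((Subgroup.card_map_dvd _ _).trans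
    (Subgroup.card_comap_dvd_of_injective _ H.subtype H.subtype_injective))
  have htrans : ∀ s t : H ⧸ W.subgroupOf H, orderOf s = 2 → orderOf t = 2 →
      ∃ d ∈ D, d * s * d⁻¹ = t := by
    intro s t hs ht
    obtain ⟨s', hs', rfl⟩ := lift_involution _ hLodd hs
    obtain ⟨t', ht', rfl⟩ := lift_involution _ hLodd ht
    obtain ⟨d, hd, he⟩ := StrongEmb.exists_conj_in_inter hse hu huH s'.2
      ((Subgroup.orderOf_coe s').trans hs') t'.2 ((Subgroup.orderOf_coe t').trans ht')
    refine ⟨π ⟨d, hd.1⟩, ⟨⟨d, hd.1⟩, hd, rfl⟩, ?_⟩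
    rw [← map_inv, ← map_mul, ← map_mul]
    exact congrArg π (Subtype.ext he)
  have hcls : ∀ s t : H ⧸ W.subgroupOf H, orderOf s = 2 → orderOf t = 2 → IsConj s t := fun s t hs ht => by
    obtain ⟨d, -, he⟩ := htrans s t hs ht
    exact isConj_iff.mpr ⟨d, he⟩
  obtain ⟨A, hAS, hA⟩ := hF.rank
  have hAH : A ≤ H := hAS.trans fun s hs => normalised hN hF hs
  set E : Subgroup (H ⧸ W.subgroupOf H) := (A.subgroupOf H).map π with hEdef
  have hE : IsEight E := by
    refine ⟨?_, ?_⟩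
    · rw [← hA.1, ← Nat.card_congr (Subgroup.subgroupOfEquivOfLe hAH).toEquiv]
      refine (Nat.card_eq_of_bijective (fun a : A.subgroupOf H => (⟨π a.1, a.1, a.2, rfl⟩ : E)) ⟨?_, ?_⟩).symm
      · intro a b h
        have h0 : π a.1 = π b.1 := congrArg Subtype.val h
        have h1 : ((a.1 : H) : G)⁻¹ * (b.1 : H) ∈ W :=
          (QuotientGroup.eq (a := (a.1 : H)) (b := (b.1 : H))).mp h0
        have h2 : ((a.1 : H) : G)⁻¹ * (b.1 : H) ∈ A := A.mul_mem (A.inv_mem a.2) b.2
        refine Subtype.ext (Subtype.ext (inv_mul_eq_one.mp ?_))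
        exact CfsgLib.Bender.TwoClosed.eq_one_of_two_odd (hA.2 _ h2)
          (hWodd.of_dvd_nat (Subgroup.orderOf_dvd_natCard W h1))
      · rintro ⟨_, a, ha, rfl⟩
        exact ⟨⟨a, ha⟩, rfl⟩
    · rintro _ ⟨a, ha, rfl⟩
      rw [← map_pow, show a ^ 2 = 1 from Subtype.ext (by simpa using hA.2 _ ha), map_one]
  have hzH : z ∈ H := normalised hN hF (hF.le hF.mem)
  set x₀ : H ⧸ W.subgroupOf H := π ⟨z, hzH⟩
  have hx₀ : orderOf x₀ = 2 := by
    refine orderOf_eq_prime ?_ fun e => ?_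
    · rw [← map_pow, show (⟨z, hzH⟩ : H) ^ 2 = 1 from Subtype.ext (by simpa [pow_two] using hF.inv.2), map_one]
    · exact hF.ne (CfsgLib.Bender.TwoClosed.eq_one_of_two_odd (by rw [pow_two]; exact hF.inv.2)
        (hWodd.of_dvd_nat (Subgroup.orderOf_dvd_natCard W ((QuotientGroup.eq_one_iff (⟨z, hzH⟩ : H)).mp e))))
  obtain ⟨k, hk⟩ : ∃ k : ℕ, D.index = 2 ^ k := by
    set C := centralizer ({x₀} : Set (H ⧸ W.subgroupOf H))
    have hidx : D.index = D.relIndex C := by
      unfold Subgroup.relIndex Subgroup.index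
      refine (Nat.card_eq_of_bijective (Quotient.map' (fun c : C => (c : H ⧸ W.subgroupOf H)) fun a b h => ?_) ⟨?_, ?_⟩).symm
      · rw [QuotientGroup.leftRel_apply] at h ⊢
        exact h
      · intro a b h
        induction a using Quotient.inductionOn' with | h a =>
        induction b using Quotient.inductionOn' with | h b =>
        rw [Quotient.map'_mk'', Quotient.map'_mk'', Quotient.eq'', QuotientGroup.leftRel_apply] at h
        exact Quotient.sound' (QuotientGroup.leftRel_apply.mpr h)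
      · intro y
        induction y using Quotient.inductionOn' with | h y =>
        obtain ⟨d, hd, he⟩ := htrans x₀ (y⁻¹ * x₀ * y⁻¹⁻¹) hx₀ (by rw [CfsgLib.Involutions.orderOf_conj, hx₀])
        have hc : y * d ∈ C := mem_centralizer_singleton_iff.mpr (by
          calc y * d * x₀ = y * (d * x₀ * d⁻¹) * d := by group
            _ = x₀ * (y * d) := by rw [he]; group)
        refine ⟨Quotient.mk'' ⟨y * d, hc⟩, ?_⟩
        rw [Quotient.map'_mk'', Quotient.eq'', QuotientGroup.leftRel_apply]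
        simpa using D.inv_mem hd
    obtain ⟨e, he⟩ := IsPGroup.iff_card.mp (hC x₀ hx₀)
    obtain ⟨j, -, hj⟩ := (Nat.dvd_prime_pow Nat.prime_two).mp (he ▸ Subgroup.relIndex_dvd_card D C)
    exact ⟨j, hidx.trans hj⟩
  obtain ⟨R, hRn, hR2, hRodd⟩ := two_closed hC hE hcls hDodd hk
  refine ⟨(R.comap π).map H.subtype, fun x hx => ?_, Subgroup.map_subtype_le _, ?_, ?_, ?_⟩
  · refine ⟨⟨x, hWH hx⟩, ?_, rfl⟩
    show π ⟨x, hWH hx⟩ ∈ R
    rw [show π (⟨x, hWH hx⟩ : H) = 1 from (QuotientGroup.eq_one_iff (⟨x, hWH hx⟩ : H)).mpr hx]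
    exact R.one_mem
  · rintro h hh _ ⟨x, hx, rfl⟩
    refine ⟨⟨h, hh⟩ * x * ⟨h, hh⟩⁻¹, ?_, rfl⟩
    show π (⟨h, hh⟩ * x * ⟨h, hh⟩⁻¹) ∈ R
    rw [map_mul, map_mul, map_inv]
    exact hRn.conj_mem _ hx _
  · rintro _ ⟨x, hx, rfl⟩
    obtain ⟨k, hk⟩ := hR2 ⟨π x, hx⟩
    refine ⟨k, ?_⟩
    have h1 : π (x ^ 2 ^ k) = 1 := by rw [map_pow]; exact congrArg Subtype.val hk
    exact (QuotientGroup.eq_one_iff (x ^ 2 ^ k)).mp h1
  · intro t g ht htH hgt
    have hgH : g ∈ H := (inv_data hN hF hno ht htH).2.1 (mem_centralizer_singleton_iff.mpr hgt)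
    refine ⟨⟨g, hgH⟩, ?_, rfl⟩
    show π ⟨g, hgH⟩ ∈ R
    obtain ⟨k, hk⟩ := exists_pow_mem_th hN ht hgt
    have h1 : (π ⟨g, hgH⟩) ^ 2 ^ k = 1 := by
      rw [← map_pow]
      exact (QuotientGroup.eq_one_iff _).mpr ((inv_data hN hF hno ht htH).1 hk)
    haveI := hRn
    have h2 := Subgroup.pow_index_mem R (π ⟨g, hgH⟩)
    obtain ⟨e, he⟩ := exists_pow_eq_self_of_coprime (n := R.index) (x := π ⟨g, hgH⟩)
      (((Nat.coprime_two_left.mpr hRodd).pow_left k).coprime_dvd_left (orderOf_dvd_of_pow_eq_one h1)).symm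
    exact he ▸ R.pow_mem h2 e

/-- The subgroup is trivial. -/
theorem sig_eq_bot [IsSimpleGroup G] (hN : NC G) (hno : ∀ H : Subgroup G, H.index ≠ 2) {S U : Subgroup G} {z : G}
    (hF : Frame S U z) : sig U = ⊥ := by
  haveI : Fact (Nat.Prime 2) := ⟨Nat.prime_two⟩
  by_contra h0
  set W := sig U with hW
  set H := Subgroup.normalizer (W : Set G) with hH
  have hne : H ≠ ⊤ := fun e => by
    rcases (Subgroup.normalizer_eq_top_iff.mp e).eq_bot_or_eq_top with hb | hb
    · exact h0 hb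
    · have h1 := odd_sig hN hF
      rw [← hW, hb, Subgroup.card_top] at h1
      exact Nat.not_even_iff_odd.mpr h1 (even_iff_two_dvd.mpr ((isInv_iff.mp hF.inv) ▸ orderOf_dvd_natCard z))
  obtain ⟨M, hWM, hMH, hMn, hMq, hMc⟩ := exists_middle hN hno hF hne
  have hse := strongly hN hF hno hne
  let cM : G ⧸ H → Subgroup G := fun c => M.map (MulAut.conj c.out).toMonoidHom
  let cW : G ⧸ H → Subgroup G := fun c => W.map (MulAut.conj c.out).toMonoidHom
  have hout : ∀ (g : G) (c : G ⧸ H), (g • c).out⁻¹ * g * c.out ∈ H := fun g c => by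
    have h : ((g • c).out : G ⧸ H) = ((g * c.out : G) : G ⧸ H) := by
      rw [QuotientGroup.out_eq', ← smul_eq_mul, ← MulAction.Quotient.smul_coe, QuotientGroup.out_eq']
    rw [mul_assoc]
    exact QuotientGroup.eq.mp h
  have hequiv : ∀ (X : Subgroup G), (∀ h ∈ H, ∀ x ∈ X, h * x * h⁻¹ ∈ X) → ∀ (g : G) (c : G ⧸ H),
      ∀ x ∈ X.map (MulAut.conj c.out).toMonoidHom, g * x * g⁻¹ ∈ X.map (MulAut.conj (g • c).out).toMonoidHom := by
    rintro X hX g c _ ⟨x, hx, rfl⟩
    refine ⟨_, hX _ (hout g c) x hx, ?_⟩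
    simp [mul_assoc]
  have hfix : ∀ (x : G) (c : G ⧸ H), x • c = c ↔ c.out⁻¹ * x * c.out ∈ H := fun x c => by
    constructor
    · intro h
      have h1 := hout x c
      rwa [h] at h1
    · intro h
      conv_lhs => rw [← QuotientGroup.out_eq' c]
      rw [MulAction.Quotient.smul_coe, smul_eq_mul]
      conv_rhs => rw [← QuotientGroup.out_eq' c]
      refine QuotientGroup.eq.mpr ?_
      rw [← inv_mem_iff]
      simpa [mul_assoc] using h
  have hact : CfsgLib.Bender.OddCore.Act G (G ⧸ H) := by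
    refine ⟨inferInstance, fun x hx => ?_, ?_⟩
    · obtain ⟨g, hg⟩ := StrongEmb.isConj_of_mem hse (isInv_iff.mp hx)
      refine ⟨((g : G) : G ⧸ H), ?_, fun c hc => ?_⟩
      · show x • ((g : G) : G ⧸ H) = _
        rw [MulAction.Quotient.smul_coe, smul_eq_mul, QuotientGroup.eq, ← inv_mem_iff]
        simpa [mul_assoc] using hg
      · have h1 := (hfix x c).mp hc
        have h2 : g⁻¹ * c.out ∈ H := by
          refine StrongEmb.mem_of_conj hse h1 ?_ (g := g⁻¹ * c.out) ?_
          · rw [show c.out⁻¹ * x * c.out = c.out⁻¹ * x * c.out⁻¹⁻¹ by rw [inv_inv], CfsgLib.Involutions.orderOf_conj]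
            exact isInv_iff.mp hx
          · simpa [mul_assoc] using hg
        rw [← QuotientGroup.out_eq' c]
        exact (QuotientGroup.eq.mpr h2).symm
    · obtain ⟨A, -, hA⟩ := hF.rank
      obtain ⟨a, ha, ha1⟩ : ∃ a ∈ A, a ≠ 1 := by
        by_contra hh
        push Not at hh
        have := hA.1
        rw [(Subgroup.eq_bot_iff_forall _).mpr hh, Subgroup.card_bot] at this
        norm_num at this
      obtain ⟨b, hb, hb1, hne'⟩ : ∃ b ∈ A, b ≠ 1 ∧ b ≠ a := by
        by_contra hh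
        push Not at hh
        have hsub : (A : Set G) ⊆ {1, a} := fun y hy => by
          by_cases h1 : y = 1
          · exact Or.inl h1
          · exact Or.inr (hh y hy h1)
        have := (Set.ncard_le_ncard hsub (Set.toFinite _)).trans (Set.ncard_insert_le _ _)
        rw [← Nat.card_coe_set_eq, Set.ncard_singleton] at this
        exact absurd (hA.1 ▸ this : (8 : ℕ) ≤ 1 + 1) (by norm_num)
      exact ⟨a, b, ha1, hb1, hne'.symm, (isInv_of_exp hA.2 ha ha1).2, (isInv_of_exp hA.2 hb hb1).2,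
        comm_of_exp hA.2 ha hb⟩
  haveI : FaithfulSMul G (G ⧸ H) := by
    have hker : (MulAction.toPermHom G (G ⧸ H)).ker = ⊥ :=
      (MonoidHom.normal_ker _).eq_bot_or_eq_top.resolve_right fun e => hne ((Subgroup.eq_top_iff' _).mpr fun g => by
        have h1 : g ∈ (MulAction.toPermHom G (G ⧸ H)).ker := e ▸ Subgroup.mem_top g
        have h2 : g • ((1 : G) : G ⧸ H) = ((1 : G) : G ⧸ H) := by
          have := congrFun (congrArg DFunLike.coe (MonoidHom.mem_ker.mp h1)) ((1 : G) : G ⧸ H)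
          exact this
        rw [MulAction.Quotient.smul_coe, smul_eq_mul, mul_one, QuotientGroup.eq, mul_one, inv_mem_iff] at h2
        exact h2)
    exact ⟨fun {a b} e => (MonoidHom.ker_eq_bot_iff _).mp hker (Equiv.ext e)⟩
  have hcore : CfsgLib.Bender.OddCore.Core G (G ⧸ H) cW cM := by
    refine ⟨hact, fun c => Subgroup.map_mono hWM, ?_, hequiv W (fun h hh x hx => conj_mem_of_normalizer hh hx),
      hequiv M hMn, ?_, ?_, ?_⟩
    · rintro c _ ⟨m, hm, rfl⟩
      refine MulAction.mem_stabilizer_iff.mpr ((hfix _ c).mpr ?_)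
      simpa [mul_assoc] using hMH hm
    · intro c
      show Odd (Nat.card (W.map (MulAut.conj c.out).toMonoidHom))
      rw [Subgroup.card_map_of_injective (MulAut.conj c.out).injective]
      exact odd_sig hN hF
    · rintro c _ ⟨m, hm, rfl⟩
      obtain ⟨k, hk⟩ := hMq m hm
      exact ⟨k, m ^ 2 ^ k, hk, map_pow _ _ _⟩
    · intro c t g ht htc hgt
      refine ⟨c.out⁻¹ * g * c.out, hMc (c.out⁻¹ * t * c.out) _ (by simpa using ht.conj c.out⁻¹)
        ((hfix t c).mp htc) ?_, by simp [mul_assoc]⟩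
      calc c.out⁻¹ * g * c.out * (c.out⁻¹ * t * c.out) = c.out⁻¹ * (g * t) * c.out := by group
        _ = c.out⁻¹ * (t * g) * c.out := by rw [hgt]
        _ = _ := by group
  have h1 := CfsgLib.Bender.OddCore.core_eq_bot hcore ((1 : G) : G ⧸ H)
  exact h0 ((Subgroup.map_eq_bot_iff_of_injective _ (MulAut.conj _).injective).mp h1)

end CfsgLib.ChzTwoNil
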