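import Cfsg.Agent.Lib.ChzTwoNil.Isolated
import Cfsg.Agent.Lib.CoprimeGen
import Cfsg.Agent.S0217
import Cfsg.Prelude.Def_Involutions

/-!
The signalizer functor of the normal 2-complements: a single odd subgroup containing all of them, whose normaliser is
strongly embedded.

Blueprint: `blueprint/chz/S3214.md`, step 2.
-/

set_option autoImplicit false
set_option linter.unusedSectionVars false
set_option linter.style.haveILetI false

namespace CfsgLib.ChzTwoNil

open Cfsg Subgroup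
open CfsgLib.Bender.TwoClosed (IsInv IsInv.inv IsInv.conj MaxP exists_maxP exists_mem_normalizer conj_mem_of_normalizer
  mem_normalizer_of_conj)

universe u

variable {G : Type u} [Group G]

/-- The subgroup generated by the complements of the involutions of `A`. -/
def sig (A : Subgroup G) : Subgroup G := ⨆ a : {a : G // a ∈ A ∧ a ≠ 1}, th (a : G)

theorem th_le_sig {A : Subgroup G} {a : G} (ha : a ∈ A) (h1 : a ≠ 1) : th a ≤ sig A :=
  le_iSup (fun a : {a : G // a ∈ A ∧ a ≠ 1} => th (a : G)) ⟨a, ha, h1⟩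

theorem sig_mono {A B : Subgroup G} (h : A ≤ B) : sig A ≤ sig B :=
  iSup_le fun a => th_le_sig (h a.2.1) a.2.2

theorem sig_conj (A : Subgroup G) (g : G) : ∀ x ∈ sig A, g * x * g⁻¹ ∈ sig (A.map (MulAut.conj g).toMonoidHom) := by
  suffices h : sig A ≤ (sig (A.map (MulAut.conj g).toMonoidHom)).comap (MulAut.conj g).toMonoidHom from fun x hx => h hx
  refine iSup_le fun a x hx => ?_
  have h1 : g * (a : G) * g⁻¹ ∈ A.map (MulAut.conj g).toMonoidHom := ⟨a, a.2.1, rfl⟩
  exact th_le_sig h1 (fun e => a.2.2 (conj_eq_one_iff.mp e)) (th_conj g a hx)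

theorem sig_map (A : Subgroup G) (g : G) :
    sig (A.map (MulAut.conj g).toMonoidHom) = (sig A).map (MulAut.conj g).toMonoidHom := by
  refine le_antisymm (fun x hx => ?_) ?_
  · refine ⟨g⁻¹ * x * g, ?_, by simp [mul_assoc]⟩
    have h := sig_conj (A.map (MulAut.conj g).toMonoidHom) g⁻¹ x hx
    rw [Subgroup.map_map] at h
    have he : (MulAut.conj g⁻¹).toMonoidHom.comp (MulAut.conj g).toMonoidHom = MonoidHom.id G :=
      MonoidHom.ext fun y => by simp [mul_assoc]
    rw [he, Subgroup.map_id, inv_inv] at h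
    exact h
  · rintro _ ⟨x, hx, rfl⟩
    exact sig_conj A g x hx

theorem isInv_of_exp {A : Subgroup G} (hA : ∀ a ∈ A, a ^ 2 = 1) {a : G} (ha : a ∈ A) (h1 : a ≠ 1) : IsInv a :=
  ⟨h1, by rw [← pow_two]; exact hA a ha⟩

variable [Finite G] (hN : NC G)
include hN

theorem complete {A : Subgroup G} (hA : IsEight A) :
    Odd (Nat.card (sig A)) ∧ ∀ a ∈ A, a ≠ 1 → sig A ⊓ centralizer ({a} : Set G) = th a := by
  haveI : Fact (Nat.Prime 2) := ⟨Nat.prime_two⟩
  have hi : ∀ a ∈ A, a ≠ 1 → IsInv a := fun a ha h1 => isInv_of_exp hA.2 ha h1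
  obtain ⟨h1, h2⟩ := Cfsg.Agent.S0217.result (p := 2) A (fun a ha b hb => comm_of_exp hA.2 ha hb) hA.2
    (by rw [hA.1]; norm_num) th (fun a _ _ => th_le a)
    (fun a ha h1 h2 => Nat.not_even_iff_odd.mpr (odd_th hN (hi a ha h1)) (even_iff_two_dvd.mpr h2))
    (fun a ha _ b hb x hx => th_normalised (comm_of_exp hA.2 hb ha) hx)
    (fun a ha h1 => solvable_th hN (hi a ha h1))
    (fun a ha h1 b hb hb1 x hx => (mem_th hN (hi b hb hb1)).mpr
      ⟨mem_centralizer_singleton_iff.mp hx.2, ((mem_th hN (hi a ha h1)).mp hx.1).2⟩)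
  exact ⟨Nat.odd_iff.mpr (Nat.two_dvd_ne_zero.mp h1), h2⟩

/-- The subgroup is determined by any four-group. -/
theorem sig_four {A U : Subgroup G} (hA : IsEight A) (hU : IsFour U) (hUA : U ≤ A) : sig A = sig U := by
  refine le_antisymm ?_ (sig_mono hUA)
  haveI := isElementary_of_exp hU.2
  have hnc : ¬ IsCyclic U := fun hc => by
    obtain ⟨g, hg⟩ := hc.exists_ofOrder_eq_natCard
    have h2 : g ^ 2 = 1 := Subtype.ext (by simpa using hU.2 g g.2)
    have h3 := Nat.le_of_dvd two_pos (orderOf_dvd_of_pow_eq_one h2)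
    rw [hg, hU.1] at h3
    omega
  have hn : U ≤ Subgroup.normalizer (sig A : Set G) := fun u hu => mem_normalizer_of_conj fun x hx => by
    have hle : sig A ≤ (sig A).comap (MulAut.conj u).toMonoidHom := iSup_le fun a y hy =>
      th_le_sig a.2.1 a.2.2 (th_normalised (comm_of_exp hA.2 (hUA hu) a.2.1) hy)
    exact hle hx
  have hcop : (Nat.card U).Coprime (Nat.card (sig A)) := by
    rw [hU.1]
    exact (Nat.coprime_two_left.mpr (complete hN hA).1).pow_left 2
  rw [← CfsgLib.coprime_generated_by_centralizers hnc hn hcop]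
  refine iSup₂_le fun u hu => ?_
  rw [(complete hN hA).2 u (hUA hu.1) hu.2]
  exact th_le_sig hu.1 hu.2

theorem sig_eq_of_two {A B P : Subgroup G} (hA : IsEight A) (hB : IsEight B) (hP : IsFour P) (hPA : P ≤ A)
    (hPB : P ≤ B) : sig A = sig B :=
  (sig_four hN hA hP hPA).trans (sig_four hN hB hP hPB).symm

variable {S U : Subgroup G} {z : G} (hF : Frame S U z)
include hF

/-- All subgroups of order eight of `S` give the same subgroup. -/
theorem sig_const {B : Subgroup G} (hBS : B ≤ S) (hB : IsEight B) : sig B = sig U := by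
  have hzc : z ∈ centralizer (U : Set G) := Subgroup.mem_centralizer_iff.mpr fun u hu =>
    comm_of_exp hF.four.2 hu hF.mem
  -- the case `z ∈ B`
  have key : ∀ B : Subgroup G, B ≤ S → IsEight B → z ∈ B → sig B = sig U := by
    intro B hBS hB hzB
    obtain ⟨P, hP, hPR, hzP⟩ := exists_four_of_le (A := B ⊓ centralizer (U : Set G)) (fun a ha => hB.2 a ha.1)
      (hF.four_le_inf hBS hB) (Subgroup.mem_inf.mpr ⟨hzB, hzc⟩) hF.ne
    by_cases hPU : P ≤ U
    · have : P = U := Subgroup.eq_of_le_of_card_ge hPU (by rw [hP.1, hF.four.1])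
      exact sig_four hN hB hF.four (this ▸ hPR.trans inf_le_left)
    obtain ⟨w, hw, hwU⟩ := SetLike.not_le_iff_exists.mp hPU
    obtain ⟨A, hUA, hwA, hA, -⟩ := exists_eight hF.four (hB.2 w (hPR hw).1) hwU fun u hu =>
      Subgroup.mem_centralizer_iff.mp (hPR hw).2 u hu
    have hwz : w ≠ z := fun e => hwU (e ▸ hF.mem)
    have hw1 : w ≠ 1 := fun e => hwU (e ▸ U.one_mem)
    obtain ⟨P', hP', hzP', hwP', hm⟩ := exists_four (hF.four.2 z hF.mem) (hB.2 w (hPR hw).1) hF.ne hw1 hwz.symm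
      (comm_of_exp hP.2 hzP hw)
    have hsub : ∀ C : Subgroup G, z ∈ C → w ∈ C → P' ≤ C := fun C h1 h2 v hv => by
      rcases hm v hv with rfl | rfl | rfl | rfl
      exacts [C.one_mem, h1, h2, C.mul_mem h1 h2]
    rw [sig_eq_of_two hN hB hA hP' (hsub B hzB (hPR hw).1) (hsub A (hUA hF.mem) hwA), sig_four hN hA hF.four hUA]
  by_cases hzB : z ∈ B
  · exact key B hBS hB hzB
  have h4 := hF.four_le_inf hBS hB
  obtain ⟨x, hx, hx1⟩ : ∃ x ∈ B ⊓ centralizer (U : Set G), x ≠ 1 := by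
    by_contra hh
    push Not at hh
    rw [(Subgroup.eq_bot_iff_forall _).mpr hh, Subgroup.card_bot] at h4
    omega
  obtain ⟨P, hP, hPR, -⟩ := exists_four_of_le (A := B ⊓ centralizer (U : Set G)) (fun a ha => hB.2 a ha.1) h4 hx hx1
  obtain ⟨A, hPA, hzA, hA, hm⟩ := exists_eight hP (hF.four.2 z hF.mem) (fun h => hzB (hPR h).1)
    fun u hu => hF.central u (hBS (hPR hu).1)
  have hAS : A ≤ S := fun a ha => by
    rcases hm a ha with h | h
    · exact hBS (hPR h).1
    · rw [← mul_inv_cancel_right a z]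
      exact mul_mem (hBS (hPR h).1) (inv_mem (hF.le hF.mem))
  rw [sig_eq_of_two hN hB hA hP (hPR.trans inf_le_left) hPA, key A hAS hA hzA]

theorem normalised {s : G} (hs : s ∈ S) : s ∈ Subgroup.normalizer (sig U : Set G) :=
  mem_normalizer_of_conj fun x hx => by
    have hmap : U.map (MulAut.conj s).toMonoidHom ≤ U := by
      rintro _ ⟨u, hu, rfl⟩
      exact hF.norm s hs u hu
    exact sig_mono hmap (sig_conj U s x hx)

theorem odd_sig : Odd (Nat.card (sig U)) := by
  obtain ⟨A, hAS, hA⟩ := hF.rank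
  rw [← sig_const hN hF hAS hA]
  exact (complete hN hA).1

variable (hno : ∀ H : Subgroup G, H.index ≠ 2)
include hno

theorem th_le_core {t : G} (htS : t ∈ S) (ht : IsInv t) : th t ≤ sig U := by
  obtain ⟨B, hBS, hB, hBt⟩ := exists_eight_cent hN hno hF htS ht
  by_cases htB : t ∈ B
  · rw [← sig_const hN hF hBS hB]
    exact th_le_sig htB ht.1
  obtain ⟨b, hb, hb1⟩ : ∃ b ∈ B, b ≠ 1 := by
    by_contra hh
    push Not at hh
    have := hB.1
    rw [(Subgroup.eq_bot_iff_forall _).mpr hh, Subgroup.card_bot] at this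
    norm_num at this
  obtain ⟨P, hP, hPB, -⟩ := exists_four_of_le hB.2 (by rw [hB.1]; norm_num) hb hb1
  obtain ⟨A, -, htA, hA, hm⟩ := exists_eight hP (by rw [pow_two, ht.2]) (fun h => htB (hPB h))
    fun u hu => hBt u (hPB hu)
  have hAS : A ≤ S := fun a ha => by
    rcases hm a ha with h | h
    · exact hBS (hPB h)
    · rw [← mul_inv_cancel_right a t]
      exact mul_mem (hBS (hPB h)) (inv_mem htS)
  rw [← sig_const hN hF hAS hA]
  exact th_le_sig htA ht.1

/-- With trivial subgroup all complements are trivial. -/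
theorem th_bot (h : sig U = ⊥) {t : G} (ht : IsInv t) : th t = ⊥ := by
  haveI : Fact (Nat.Prime 2) := ⟨Nat.prime_two⟩
  obtain ⟨T, htT, hT⟩ := exists_maxP (p := 2) (K := (⊤ : Subgroup G)) (X := Subgroup.zpowers t)
    (IsPGroup.of_card (n := 1) (by rw [Nat.card_zpowers, pow_one]; exact isInv_iff.mp ht)) le_top
  obtain ⟨g, -, hg⟩ := hT.conj hF.syl
  have h1 : th (g * t * g⁻¹) = ⊥ :=
    le_bot_iff.mp (h ▸ th_le_core hN hF hno ((hg t).mp (htT (Subgroup.mem_zpowers t))) (ht.conj g))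
  refine (Subgroup.eq_bot_iff_forall _).mpr fun x hx => ?_
  have h2 := th_conj g t hx
  rw [h1, Subgroup.mem_bot] at h2
  exact conj_eq_one_iff.mp h2

/-- A 2-subgroup of the normaliser containing a subgroup of order eight gives the same subgroup. -/
theorem sig_of_le {B : Subgroup G} (hB : IsEight B) (hBH : B ≤ Subgroup.normalizer (sig U : Set G)) :
    sig B = sig U := by
  haveI : Fact (Nat.Prime 2) := ⟨Nat.prime_two⟩
  obtain ⟨T, hBT, hT⟩ := exists_maxP (p := 2) (isPGroup_of_exp hB.2) hBH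
  obtain ⟨g, hg, hgS⟩ := hT.conj (hF.syl.of_le le_top fun s hs => normalised hN hF hs)
  have hle : B.map (MulAut.conj g).toMonoidHom ≤ S := by
    rintro _ ⟨b, hb, rfl⟩
    exact (hgS b).mp (hBT hb)
  have h1 := sig_const hN hF hle (IsEight.map B hB g)
  rw [sig_map] at h1
  refine Subgroup.map_injective (f := (MulAut.conj g).toMonoidHom) (MulAut.conj g).injective (h1.trans ?_)
  refine le_antisymm ?_ ?_
  · intro x hx
    refine ⟨g⁻¹ * x * g, ?_, by simp [mul_assoc]⟩
    simpa using conj_mem_of_normalizer (inv_mem hg) hx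
  · rintro _ ⟨x, hx, rfl⟩
    exact conj_mem_of_normalizer hg hx

theorem mem_of_normalizes {R B : Subgroup G} (hRH : R ≤ Subgroup.normalizer (sig U : Set G)) (hB : IsEight B)
    (hBR : B ≤ R) {n : G} (hn : n ∈ Subgroup.normalizer (R : Set G)) : n ∈ Subgroup.normalizer (sig U : Set G) := by
  have hle : B.map (MulAut.conj n).toMonoidHom ≤ Subgroup.normalizer (sig U : Set G) := by
    rintro _ ⟨b, hb, rfl⟩
    exact hRH (conj_mem_of_normalizer hn (hBR hb))
  have h1 := sig_of_le hN hF hno (IsEight.map B hB n) hle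
  rw [sig_map, sig_of_le hN hF hno hB (hBR.trans hRH)] at h1
  refine mem_normalizer_of_conj fun x hx => ?_
  rw [← h1]
  exact ⟨x, hx, rfl⟩

theorem two_le {T B : Subgroup G} (hT : IsPGroup 2 T) (hB : IsEight B) (hBT : B ≤ T)
    (hBH : B ≤ Subgroup.normalizer (sig U : Set G)) : T ≤ Subgroup.normalizer (sig U : Set G) := by
  haveI : Fact (Nat.Prime 2) := ⟨Nat.prime_two⟩
  by_contra hle
  obtain ⟨n, hnT, hn, hnn⟩ := exists_mem_normalizer hT
    (lt_of_le_of_ne inf_le_left fun e => hle (e ▸ inf_le_right) :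
      T ⊓ Subgroup.normalizer (sig U : Set G) < T)
  exact hn ⟨hnT, mem_of_normalizes hN hF hno inf_le_right hB (le_inf hBT hBH) hnn⟩

/-- An involution of the normaliser: its complement, its centraliser and a subgroup of order eight. -/
theorem inv_data {t : G} (ht : IsInv t) (htH : t ∈ Subgroup.normalizer (sig U : Set G)) :
    th t ≤ sig U ∧ centralizer ({t} : Set G) ≤ Subgroup.normalizer (sig U : Set G) ∧
      ∃ B : Subgroup G, IsEight B ∧ B ≤ centralizer ({t} : Set G) ∧
        B ≤ Subgroup.normalizer (sig U : Set G) := by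
  haveI : Fact (Nat.Prime 2) := ⟨Nat.prime_two⟩
  obtain ⟨T, htT, hT⟩ := exists_maxP (p := 2) (X := Subgroup.zpowers t)
    (IsPGroup.of_card (n := 1) (by rw [Nat.card_zpowers, pow_one]; exact isInv_iff.mp ht)) (Subgroup.zpowers_le.mpr htH)
  obtain ⟨g, hg, hgS⟩ := hT.conj (hF.syl.of_le le_top fun s hs => normalised hN hF hs)
  have htS : g * t * g⁻¹ ∈ S := (hgS t).mp (htT (Subgroup.mem_zpowers t))
  have hth : th t ≤ sig U := fun x hx => by
    have h := conj_mem_of_normalizer (inv_mem hg) (th_le_core hN hF hno htS (ht.conj g) (th_conj g t hx))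
    simpa [mul_assoc] using h
  obtain ⟨B, hBS, hB, hBt⟩ := exists_eight_cent hN hno hF htS (ht.conj g)
  have hB1 : B.map (MulAut.conj g⁻¹).toMonoidHom ≤ centralizer ({t} : Set G) := by
    rintro _ ⟨b, hb, rfl⟩
    refine mem_centralizer_singleton_iff.mpr ?_
    show g⁻¹ * b * g⁻¹⁻¹ * t = t * (g⁻¹ * b * g⁻¹⁻¹)
    calc g⁻¹ * b * g⁻¹⁻¹ * t = g⁻¹ * (b * (g * t * g⁻¹)) * g := by group
      _ = g⁻¹ * (g * t * g⁻¹ * b) * g := by rw [hBt b hb]
      _ = _ := by group
  have hB2 : B.map (MulAut.conj g⁻¹).toMonoidHom ≤ Subgroup.normalizer (sig U : Set G) := by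
    rintro _ ⟨b, hb, rfl⟩
    exact mul_mem (mul_mem (inv_mem hg) (normalised hN hF (hBS hb))) (inv_mem (inv_mem hg))
  refine ⟨hth, ?_, _, IsEight.map B hB g⁻¹, hB1, hB2⟩
  obtain ⟨R, hBR, hR⟩ := exists_maxP (p := 2) (isPGroup_of_exp (IsEight.map B hB g⁻¹).2) hB1
  exact (cent_le_sup hN ht hR).trans (sup_le (hth.trans Subgroup.le_normalizer)
    (two_le hN hF hno hR.isPGroup (IsEight.map B hB g⁻¹) hBR hB2))

/-- The normaliser is strongly embedded. -/
theorem strongly (hne : Subgroup.normalizer (sig U : Set G) ≠ ⊤) :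
    IsStronglyEmbedded (Subgroup.normalizer (sig U : Set G)) := by
  haveI : Fact (Nat.Prime 2) := ⟨Nat.prime_two⟩
  set H := Subgroup.normalizer (sig U : Set G) with hH
  refine ⟨hne, ?_, fun g hg => Nat.not_even_iff_odd.mp fun he => ?_⟩
  · rw [even_iff_two_dvd, ← isInv_iff.mp hF.inv]
    exact Subgroup.orderOf_dvd_natCard H (normalised hN hF (hF.le hF.mem))
  obtain ⟨t, ht, hti⟩ := CfsgLib.Bender.TwoClosed.exists_inv_of_even he
  obtain ⟨-, -, B, hB, hBt, hBH⟩ := inv_data hN hF hno hti ht.1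
  obtain ⟨y, hy, hye⟩ := ht.2
  have hy' : y = g⁻¹ * t * g := by rw [← hye]; simp [mul_assoc]
  have hyi : IsInv y := by rw [hy']; simpa using hti.conj g⁻¹
  obtain ⟨-, hcy, -⟩ := inv_data hN hF hno hyi hy
  have hle : B.map (MulAut.conj g⁻¹).toMonoidHom ≤ H := by
    rintro _ ⟨b, hb, rfl⟩
    refine hcy (mem_centralizer_singleton_iff.mpr ?_)
    show g⁻¹ * b * g⁻¹⁻¹ * y = y * (g⁻¹ * b * g⁻¹⁻¹)
    rw [hy']
    calc g⁻¹ * b * g⁻¹⁻¹ * (g⁻¹ * t * g) = g⁻¹ * (b * t) * g := by group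
      _ = g⁻¹ * (t * b) * g := by rw [mem_centralizer_singleton_iff.mp (hBt hb)]
      _ = _ := by group
  have h1 := sig_of_le hN hF hno (IsEight.map B hB g⁻¹) hle
  rw [sig_map, sig_of_le hN hF hno hB hBH] at h1
  refine hg (inv_mem_iff.mp (mem_normalizer_of_conj fun x hx => ?_))
  rw [← h1]
  exact ⟨x, hx, rfl⟩

end CfsgLib.ChzTwoNil
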