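import Cfsg.Agent.Lib.ChzTwoNil.Basic
import Cfsg.Agent.Lib.ChzTwoNil.Eight
import Cfsg.Agent.S0221
import Cfsg.Agent.S3224

/-!
With 2-nilpotent involution centralisers and no subgroup of index two, every involution of a Sylow 2-subgroup of rank
at least three centralises an elementary abelian subgroup of order eight of it.

Blueprint: `blueprint/chz/S3214.md`, step 1.
-/

set_option autoImplicit false
set_option linter.unusedSectionVars false
set_option linter.style.haveILetI false

namespace CfsgLib.ChzTwoNil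

open Cfsg Subgroup
open CfsgLib.Bender.TwoClosed (IsInv IsInv.inv IsInv.conj MaxP exists_maxP exists_mem_normalizer conj_mem_of_normalizer)

universe u

variable {G : Type u} [Group G]

/-- A Sylow 2-subgroup with a normal four-group containing the central involution `z`. -/
structure Frame (S U : Subgroup G) (z : G) : Prop where
  syl : MaxP 2 ⊤ S
  four : IsFour U
  le : U ≤ S
  norm : ∀ s ∈ S, ∀ u ∈ U, s * u * s⁻¹ ∈ U
  mem : z ∈ U
  ne : z ≠ 1
  central : ∀ s ∈ S, s * z = z * s
  rank : ∃ A : Subgroup G, A ≤ S ∧ IsEight A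

variable {S U : Subgroup G} {z : G}

theorem Frame.inv (hF : Frame S U z) : IsInv z :=
  ⟨hF.ne, by rw [← pow_two]; exact hF.four.2 z hF.mem⟩

theorem Frame.S_le_cent (hF : Frame S U z) : S ≤ centralizer ({z} : Set G) := fun s hs =>
  mem_centralizer_singleton_iff.mpr (hF.central s hs)

variable [Finite G]

theorem Frame.other (hF : Frame S U z) : ∃ u ∈ U, u ≠ 1 ∧ u ≠ z ∧ ∀ v ∈ U, v = 1 ∨ v = z ∨ v = u ∨ v = z * u := by
  obtain ⟨hU4, hU2⟩ := hF.four
  obtain ⟨u, hu, hu1, huz⟩ : ∃ u ∈ U, u ≠ 1 ∧ u ≠ z := by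
    by_contra h
    push Not at h
    have hsub : (U : Set G) ⊆ {1, z} := fun y hy => by
      by_cases h1 : y = 1
      · exact Or.inl h1
      · exact Or.inr (h y hy h1)
    have := (Set.ncard_le_ncard hsub (Set.toFinite _)).trans (Set.ncard_insert_le _ _)
    rw [← Nat.card_coe_set_eq, Set.ncard_singleton] at this
    exact absurd (hU4 ▸ this : (4 : ℕ) ≤ 1 + 1) (by norm_num)
  obtain ⟨A, hA, hzA, huA, hmem⟩ :=
    exists_four (hU2 z hF.mem) (hU2 u hu) hF.ne hu1 huz.symm (comm_of_exp hU2 hF.mem hu)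
  have hAU : A ≤ U := fun a ha => by
    rcases hmem a ha with rfl | rfl | rfl | rfl
    exacts [U.one_mem, hF.mem, hu, U.mul_mem hF.mem hu]
  have heq : A = U := Subgroup.eq_of_le_of_card_ge hAU (by rw [hA.1, hU4])
  exact ⟨u, hu, hu1, huz, fun v hv => hmem v (heq ▸ hv)⟩

/-- Two elements outside the centraliser of the four-group have product inside. -/
theorem Frame.mul_mem_cent (hF : Frame S U z) {s s' : G} (hs : s ∈ S) (hs' : s' ∈ S)
    (h : s ∉ centralizer (U : Set G)) (h' : s' ∉ centralizer (U : Set G)) :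
    s * s' ∈ centralizer (U : Set G) := by
  obtain ⟨u, hu, hu1, huz, hmem⟩ := hF.other
  have hz2 : z * z = 1 := by rw [← pow_two]; exact hF.four.2 z hF.mem
  have hzc : ∀ r ∈ S, r * z * r⁻¹ = z := fun r hr => by rw [hF.central r hr, mul_inv_cancel_right]
  have hout : ∀ r ∈ S, r ∉ centralizer (U : Set G) → r * u * r⁻¹ = z * u := by
    intro r hr hrc
    rcases hmem _ (hF.norm r hr u hu) with e | e | e | e
    · exact absurd (conj_eq_one_iff.mp e) hu1
    · exact absurd (mul_left_cancel (mul_right_cancel (e.trans (hzc r hr).symm))) huz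
    · refine absurd (Subgroup.mem_centralizer_iff.mpr fun v hv => ?_) hrc
      have h1 : Commute r u := mul_inv_eq_iff_eq_mul.mp e
      have h2 : Commute r z := hF.central r hr
      rcases hmem v hv with rfl | rfl | rfl | rfl
      exacts [(Commute.one_right r).symm.eq, h2.symm.eq, h1.symm.eq, (h2.mul_right h1).symm.eq]
    · exact e
  refine Subgroup.mem_centralizer_iff.mpr fun v hv => ?_
  have key : ∀ v, v = z ∨ v = u → Commute (s * s') v := by
    rintro v (rfl | rfl)
    · exact (show Commute s v from hF.central s hs).mul_left (hF.central s' hs')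
    · refine mul_inv_eq_iff_eq_mul.mp ?_
      calc s * s' * v * (s * s')⁻¹ = s * (s' * v * s'⁻¹) * s⁻¹ := by group
        _ = (s * z * s⁻¹) * (s * v * s⁻¹) := by rw [hout s' hs' h']; group
        _ = v := by rw [hzc s hs, hout s hs h, ← mul_assoc, hz2, one_mul]
  rcases hmem v hv with rfl | rfl | rfl | rfl
  exacts [(Commute.one_right _).symm.eq, (key _ (Or.inl rfl)).symm.eq, (key _ (Or.inr rfl)).symm.eq,
    ((key _ (Or.inl rfl)).mul_right (key _ (Or.inr rfl))).symm.eq]

theorem Frame.sq_mem_cent (hF : Frame S U z) {s : G} (hs : s ∈ S) : s * s ∈ centralizer (U : Set G) := by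
  by_cases h : s ∈ centralizer (U : Set G)
  · exact mul_mem h h
  · exact hF.mul_mem_cent hs hs h h

/-- An elementary abelian subgroup of order eight meets the centraliser of the four-group in order at least four. -/
theorem Frame.four_le_inf (hF : Frame S U z) {A : Subgroup G} (hAS : A ≤ S) (hA : IsEight A) :
    4 ≤ Nat.card ↥(A ⊓ centralizer (U : Set G)) := by
  set R := A ⊓ centralizer (U : Set G)
  by_cases hle : A ≤ centralizer (U : Set G)
  · rw [show R = A from inf_eq_left.mpr hle, hA.1]; norm_num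
  obtain ⟨a, ha, hac⟩ := SetLike.not_le_iff_exists.mp hle
  have h2 : (A : Set G) ⊆ (R : Set G) ∪ (fun r => a * r) '' (R : Set G) := by
    intro x hx
    by_cases hxc : x ∈ centralizer (U : Set G)
    · exact Or.inl ⟨hx, hxc⟩
    · refine Or.inr ⟨a * x, ⟨A.mul_mem ha hx, hF.mul_mem_cent (hAS ha) (hAS hx) hac hxc⟩, ?_⟩
      show a * (a * x) = x
      rw [← mul_assoc, ← pow_two, hA.2 a ha, one_mul]
  have h3 := (Set.ncard_le_ncard h2 (Set.toFinite _)).trans (Set.ncard_union_le _ _)
  have h4 := Set.ncard_image_le (f := fun r => a * r) (Set.toFinite (R : Set G))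
  rw [← Nat.card_coe_set_eq (A : Set G), ← Nat.card_coe_set_eq (R : Set G)] at h3
  rw [← Nat.card_coe_set_eq (R : Set G)] at h4
  change Nat.card A ≤ Nat.card R + _ at h3
  change _ ≤ Nat.card R at h4
  have := hA.1
  omega

/-- An involution of the centraliser of the four-group outside it. -/
theorem Frame.exists_outside (hF : Frame S U z) :
    ∃ w ∈ S, w ∈ centralizer (U : Set G) ∧ w ^ 2 = 1 ∧ w ∉ U := by
  obtain ⟨A, hAS, hA⟩ := hF.rank
  by_contra h
  push Not at h
  have hle : A ⊓ centralizer (U : Set G) ≤ U := fun w hw => h w (hAS hw.1) hw.2 (hA.2 w hw.1)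
  have heq := Subgroup.eq_of_le_of_card_ge hle (by rw [hF.four.1]; exact hF.four_le_inf hAS hA)
  have hUA : U ≤ A := heq ▸ inf_le_left
  have hAU : A ≤ U := fun a ha => hle ⟨ha, Subgroup.mem_centralizer_iff.mpr fun v hv => comm_of_exp hA.2 (hUA hv) ha⟩
  have := Subgroup.card_le_of_le hAU
  rw [hA.1, hF.four.1] at this
  omega

theorem exists_frame (h : ¬ PRankLE 2 2 G) : ∃ (S U : Subgroup G) (z : G), Frame S U z := by
  haveI : Fact (Nat.Prime 2) := ⟨Nat.prime_two⟩
  obtain ⟨E, hE⟩ := exists_eight_of_rank h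
  obtain ⟨S, hES, hS⟩ := exists_maxP (p := 2) (isPGroup_of_exp hE.2) (le_top : E ≤ ⊤)
  haveI : Group.IsNilpotent S := hS.isPGroup.isNilpotent
  obtain ⟨U', hU', hU'4, hU'2⟩ := RankThreeCent.exists_normal_four hS.isPGroup (E.subgroupOf S)
    (by rw [Nat.card_congr (Subgroup.subgroupOfEquivOfLe hES).toEquiv, hE.1])
    (fun e he => Subtype.ext (hE.2 _ he))
  haveI := hU'
  obtain ⟨w, hw, hw1⟩ := (Subgroup.bot_or_exists_ne_one _).resolve_left
    (CfsgLib.inf_center_ne_bot_of_nilpotent (N := U') (fun e => by rw [e, Subgroup.card_bot] at hU'4; omega))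
  refine ⟨S, U'.map S.subtype, w, hS, ⟨?_, ?_⟩, Subgroup.map_subtype_le _, ?_, ⟨w, hw.1, rfl⟩,
    fun e => hw1 (Subtype.ext e), fun s hs => ?_, E, hES, hE⟩
  · rw [Subgroup.card_map_of_injective S.subtype_injective, hU'4]
  · rintro _ ⟨u, hu, rfl⟩
    rw [← map_pow, hU'2 u hu, map_one]
  · rintro s hs _ ⟨u, hu, rfl⟩
    exact ⟨(⟨s, hs⟩ : S) * u * (⟨s, hs⟩ : S)⁻¹, hU'.conj_mem u hu _, rfl⟩
  · exact congrArg Subtype.val (Subgroup.mem_center_iff.mp hw.2 ⟨s, hs⟩)

variable (hN : NC G)
include hN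

/-- The Sylow part of a 2-subgroup centralising two commuting involutions. -/
theorem card_le_inf (hF : Frame S U z) {t : G} (htS : t ∈ S) {Q : Subgroup G} (hQ : IsPGroup 2 Q)
    (hQz : ∀ q ∈ Q, q * z = z * q) (hQt : ∀ q ∈ Q, q * t = t * q) :
    Nat.card Q ≤ Nat.card ↥(S ⊓ centralizer ({t} : Set G)) := by
  have hz := hF.inv
  have hnorm : S ≤ Subgroup.normalizer (th z : Set G) := fun s hs =>
    CfsgLib.Bender.TwoClosed.mem_normalizer_of_conj fun x hx => th_normalised (hF.central s hs) hx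
  have hdisj : ∀ x, IsPGroup 2 (Subgroup.zpowers x) → x ∈ th z → x = 1 := fun x hx hm => by
    obtain ⟨k, hk⟩ := IsPGroup.iff_card.mp hx
    have ho := ((mem_th hN hz).mp hm).2
    rw [Nat.card_zpowers] at hk
    rcases k.eq_zero_or_pos with rfl | hk0
    · exact orderOf_eq_one_iff.mp (by rw [hk, pow_zero])
    · exact absurd (hk ▸ ho) (Nat.not_odd_iff_even.mpr (even_two.pow_of_ne_zero hk0.ne'))
  have key : ∀ q ∈ Q, ∃ s ∈ S ⊓ centralizer ({t} : Set G), q * s⁻¹ ∈ th z := by
    intro q hq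
    have h1 : q ∈ th z ⊔ S := cent_le_sup hN hz (hF.syl.of_le le_top hF.S_le_cent)
      (mem_centralizer_singleton_iff.mpr (hQz q hq))
    rw [← SetLike.mem_coe, Subgroup.coe_mul_of_right_le_normalizer_left (th z) S hnorm] at h1
    obtain ⟨a, ha, s, hs, rfl⟩ := Set.mem_mul.mp h1
    refine ⟨s, ⟨hs, mem_centralizer_singleton_iff.mpr ?_⟩, by rw [mul_inv_cancel_right]; exact ha⟩
    have h2 : (a * s) * t = t * (a * s) := hQt _ hq
    set c : G := s * t * s⁻¹ * t⁻¹ with hc
    have hcS : c ∈ S := mul_mem (mul_mem (mul_mem hs htS) (inv_mem hs)) (inv_mem htS)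
    have hcth : c ∈ th z := by
      rw [show c = a⁻¹ * (t * a * t⁻¹) by
        rw [hc]
        calc s * t * s⁻¹ * t⁻¹ = a⁻¹ * ((a * s) * t) * s⁻¹ * t⁻¹ := by group
          _ = a⁻¹ * (t * a * t⁻¹) := by rw [h2]; group]
      exact mul_mem (inv_mem ha) (th_normalised (hF.central t htS) ha)
    have h3 := hdisj c (hF.syl.isPGroup.to_le (Subgroup.zpowers_le.mpr hcS)) hcth
    rw [hc, mul_inv_eq_one, mul_inv_eq_iff_eq_mul] at h3
    exact h3
  choose f hf hfq using key
  refine Nat.card_le_card_of_injective (fun q : Q => (⟨f q q.2, hf q q.2⟩ : ↥(S ⊓ centralizer ({t} : Set G))))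
    fun q q' h => ?_
  have h' : f q q.2 = f q' q'.2 := congrArg Subtype.val h
  have h1 := mul_mem (hfq q q.2) (inv_mem (hfq q' q'.2))
  rw [h', show (q : G) * (f q' q'.2)⁻¹ * ((q' : G) * (f q' q'.2)⁻¹)⁻¹ = q * (q' : G)⁻¹ by group] at h1
  exact Subtype.ext (mul_inv_eq_one.mp (hdisj _ (hQ.to_le (Subgroup.zpowers_le.mpr (Q.mul_mem q.2 (Q.inv_mem q'.2)))) h1))

variable (hno : ∀ H : Subgroup G, H.index ≠ 2)
include hno

/-- Every involution of `S` centralises an elementary abelian subgroup of order eight of `S`. -/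
theorem exists_eight_cent (hF : Frame S U z) {t : G} (htS : t ∈ S) (ht : IsInv t) :
    ∃ B : Subgroup G, B ≤ S ∧ IsEight B ∧ ∀ b ∈ B, b * t = t * b := by
  haveI : Fact (Nat.Prime 2) := ⟨Nat.prime_two⟩
  have ht2 : t ^ 2 = 1 := by rw [pow_two, ht.2]
  by_cases htc : t ∈ centralizer (U : Set G)
  · obtain ⟨v, hvS, hvc, hv2, hvU, htv⟩ : ∃ v ∈ S, v ∈ centralizer (U : Set G) ∧ v ^ 2 = 1 ∧ v ∉ U ∧
        (t ∈ U ∨ v = t) := by
      by_cases htU : t ∈ U
      · obtain ⟨w, h1, h2, h3, h4⟩ := hF.exists_outside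
        exact ⟨w, h1, h2, h3, h4, Or.inl htU⟩
      · exact ⟨t, htS, htc, ht2, htU, Or.inr rfl⟩
    obtain ⟨A, hUA, hvA, hA, hmem⟩ := exists_eight hF.four hv2 hvU fun u hu =>
      Subgroup.mem_centralizer_iff.mp hvc u hu
    refine ⟨A, fun a ha => ?_, hA, fun a ha => comm_of_exp hA.2 ha (htv.elim (fun h => hUA h) fun h => h ▸ hvA)⟩
    rcases hmem a ha with h | h
    · exact hF.le h
    · rw [← mul_inv_cancel_right a v]
      exact mul_mem (hF.le h) (inv_mem hvS)
  by_contra hB
  push Not at hB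
  set C : Subgroup G := S ⊓ centralizer ({t} : Set G) with hCdef
  have hC : ∀ B : Subgroup G, IsEight B → ¬ B ≤ C := fun B hB8 hle => by
    obtain ⟨b, hb, hne⟩ := hB B (hle.trans inf_le_left) hB8
    exact hne (mem_centralizer_singleton_iff.mp (hle hb).2)
  have htz : t ≠ z := fun e => htc (e ▸ Subgroup.mem_centralizer_iff.mpr fun u hu => comm_of_exp hF.four.2 hu hF.mem)
  -- the only involution of `C` in the centraliser of the four-group is `z`
  have huniq : ∀ i ∈ C, i ∈ centralizer (U : Set G) → IsInv i → i = z := by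
    intro i hi hic hii
    by_contra hiz
    obtain ⟨P, hP, htP, hzP, hPm⟩ := exists_four ht2 (hF.four.2 z hF.mem) ht.1 hF.ne htz (hF.central t htS)
    have hzc : z ∈ centralizer (U : Set G) := Subgroup.mem_centralizer_iff.mpr fun u hu =>
      comm_of_exp hF.four.2 hu hF.mem
    have hiP : i ∉ P := fun h => by
      rcases hPm i h with e | e | e | e
      · exact hii.1 e
      · exact htc (e ▸ hic)
      · exact hiz e
      · refine htc ?_
        rw [show t = i * z⁻¹ by rw [e, mul_inv_cancel_right]]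
        exact mul_mem hic (inv_mem hzc)
    have hcomm : ∀ u ∈ P, u * i = i * u := fun u hu => by
      have h1 : Commute t i := (mem_centralizer_singleton_iff.mp hi.2).symm
      have h2 : Commute z i := (hF.central i hi.1).symm
      rcases hPm u hu with rfl | rfl | rfl | rfl
      exacts [(Commute.one_left i).eq, h1.eq, h2.eq, (h1.mul_left h2).eq]
    obtain ⟨A, hPA, hiA, hA, hmem⟩ := exists_eight hP (by rw [pow_two, hii.2]) hiP hcomm
    refine hC A hA fun a ha => ?_
    have hPC : P ≤ C := fun u hu => by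
      refine ⟨?_, mem_centralizer_singleton_iff.mpr (comm_of_exp hP.2 hu htP)⟩
      rcases hPm u hu with rfl | rfl | rfl | rfl
      exacts [S.one_mem, htS, hF.le hF.mem, S.mul_mem htS (hF.le hF.mem)]
    rcases hmem a ha with h | h
    · exact hPC h
    · rw [← mul_inv_cancel_right a i]
      exact mul_mem (hPC h) (inv_mem hi)
  -- a larger 2-subgroup centralises `t`
  obtain ⟨E, hE⟩ : ∃ E : Subgroup G, E ≤ S ∧ IsEight E := hF.rank
  obtain ⟨B, hBt, hB8, hB2⟩ := Cfsg.Agent.S0221.result hno ⟨E, hE.2.1, hE.2.2⟩ t (isInv_iff.mp ht)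
  obtain ⟨T, hCT, hT⟩ := exists_maxP (p := 2) (hF.syl.isPGroup.to_le (inf_le_left : C ≤ S))
    (inf_le_right : C ≤ centralizer ({t} : Set G))
  have hlt : C < T := lt_of_le_of_ne hCT fun e => by
    subst e
    obtain ⟨T', hBT', hT'⟩ := exists_maxP (p := 2) (isPGroup_of_exp hB2) hBt
    obtain ⟨g, hg, hgT⟩ := hT'.conj hT
    refine hC _ (IsEight.map B ⟨hB8, hB2⟩ g) ?_
    rintro _ ⟨b, hb, rfl⟩
    exact (hgT b).mp (hBT' hb)
  obtain ⟨n, hnT, hnC, hn⟩ := exists_mem_normalizer hT.isPGroup hlt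
  have hnt : n * t = t * n := mem_centralizer_singleton_iff.mp (hT.le hnT)
  by_cases hexp : ∀ y ∈ C, y ^ 2 = 1
  · -- `C` has order four
    have htC : t ∈ C := ⟨htS, mem_centralizer_singleton_iff.mpr rfl⟩
    have hzC : z ∈ C := ⟨hF.le hF.mem, mem_centralizer_singleton_iff.mpr (hF.central t htS).symm⟩
    obtain ⟨P, hP, htP, hzP, hPm⟩ := exists_four ht2 (hF.four.2 z hF.mem) ht.1 hF.ne htz (hF.central t htS)
    have hPC : P = C := by
      refine le_antisymm (fun u hu => ?_) fun u hu => ?_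
      · rcases hPm u hu with rfl | rfl | rfl | rfl
        exacts [C.one_mem, htC, hzC, C.mul_mem htC hzC]
      · by_contra huP
        obtain ⟨A, hPA, huA, hA, hmem⟩ := exists_eight hP (hexp u hu) huP fun v hv => by
          rcases hPm v hv with rfl | rfl | rfl | rfl
          exacts [by rw [one_mul, mul_one], comm_of_exp hexp htC hu, comm_of_exp hexp hzC hu,
            comm_of_exp hexp (C.mul_mem htC hzC) hu]
        refine hC A hA fun a ha => ?_
        have hPC : ∀ v ∈ P, v ∈ C := fun v hv => by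
          rcases hPm v hv with rfl | rfl | rfl | rfl
          exacts [C.one_mem, htC, hzC, C.mul_mem htC hzC]
        rcases hmem a ha with h | h
        · exact hPC a h
        · rw [← mul_inv_cancel_right a u]
          exact mul_mem (hPC _ h) (inv_mem hu)
    have hcard : Nat.card ↥(centralizer ({(⟨t, htS⟩ : S)} : Set S)) = 4 := by
      rw [← hP.1, hPC]
      refine Nat.card_congr
        { toFun := fun x => ⟨x.1, x.1.2, mem_centralizer_singleton_iff.mpr
            (congrArg Subtype.val (mem_centralizer_singleton_iff.mp x.2))⟩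
          invFun := fun x => ⟨⟨x.1, x.2.1⟩, mem_centralizer_singleton_iff.mpr
            (Subtype.ext (mem_centralizer_singleton_iff.mp x.2.2))⟩
          left_inv := fun _ => rfl
          right_inv := fun _ => rfl }
    have hE' : IsEight (E.subgroupOf S) :=
      ⟨by rw [Nat.card_congr (Subgroup.subgroupOfEquivOfLe hE.1).toEquiv, hE.2.1],
        fun e he => Subtype.ext (hE.2.2 _ he)⟩
    rcases Cfsg.Agent.S3224.result hF.syl.isPGroup (⟨t, htS⟩ : S)
      (by rw [Subgroup.orderOf_mk]; exact isInv_iff.mp ht) hcard with ⟨m, ⟨e⟩⟩ | hq | h4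
    · exact no_eight_dihedral e hE'
    · exact no_eight_quasi hq hE'
    · have := Subgroup.card_le_of_le hE.1
      rw [hE.2.1, h4] at this
      omega
  push Not at hexp
  obtain ⟨y, hy, hy2⟩ := hexp
  -- an involution which is a square in `C`
  obtain ⟨k, hk⟩ := IsPGroup.iff_orderOf.mp hF.syl.isPGroup ⟨y, hy.1⟩
  rw [Subgroup.orderOf_mk] at hk
  obtain ⟨i, rfl⟩ : ∃ i, k = i + 2 := by
    refine Nat.exists_eq_add_of_le' ?_
    by_contra hlt
    refine hy2 (orderOf_dvd_iff_pow_eq_one.mp ?_)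
    rw [hk]
    exact (pow_dvd_pow 2 (by omega : k ≤ 1)).trans (by norm_num)
  have hsq : ∀ w ∈ C, orderOf w = 2 ^ (i + 2) → w ^ 2 ^ (i + 1) = z := by
    intro w hw hwo
    refine huniq _ (pow_mem hw _) ?_ ⟨fun e => ?_, ?_⟩
    · rw [pow_succ, pow_mul, pow_two]
      exact hF.sq_mem_cent (pow_mem hw.1 _)
    · have := orderOf_dvd_of_pow_eq_one e
      rw [hwo, Nat.pow_dvd_pow_iff_le_right (by norm_num : 1 < 2)] at this
      omega
    · rw [← pow_add, ← two_mul, ← pow_succ', ← hwo, pow_orderOf_eq_one]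
  have hnz : n * z = z * n := by
    have h1 : n * y * n⁻¹ ∈ C := conj_mem_of_normalizer hn hy
    have h2 := hsq _ h1 (by rw [CfsgLib.Involutions.orderOf_conj, hk])
    rw [conj_pow, hsq y hy hk] at h2
    exact mul_inv_eq_iff_eq_mul.mp h2
  have hQ : C ⊔ Subgroup.zpowers n ≤ T := sup_le hCT (Subgroup.zpowers_le.mpr hnT)
  have hQz : C ⊔ Subgroup.zpowers n ≤ centralizer ({z} : Set G) :=
    sup_le (fun c hc => hF.S_le_cent hc.1) (Subgroup.zpowers_le.mpr (mem_centralizer_singleton_iff.mpr hnz))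
  have := card_le_inf hN hF htS (hT.isPGroup.to_le hQ) (fun q hq => mem_centralizer_singleton_iff.mp (hQz hq))
    fun q hq => mem_centralizer_singleton_iff.mp (hT.le (hQ hq))
  exact hnC ((le_sup_right : _ ≤ C ⊔ Subgroup.zpowers n).trans
    (Subgroup.eq_of_le_of_card_ge le_sup_left this).ge (Subgroup.mem_zpowers n))

end CfsgLib.ChzTwoNil
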