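import Cfsg.Agent.Lib.CIT.Main
import Cfsg.Agent.Lib.CITExt.L34
import Cfsg.Agent.Lib.Fusion.PSLSylow
import Cfsg.Agent.Lib.ChzTwoNil.Eight

/-!
A simple group with involution centralisers 2-groups and two-rank at least three has no subgroup of odd order and
2-power index.

Blueprint: `blueprint/chz/S3214.md`, step 4.
-/

set_option autoImplicit false
set_option linter.unusedSectionVars false
set_option linter.style.haveILetI false

namespace CfsgLib.ChzTwoNil

open Cfsg Subgroup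
open scoped Pointwise
open CfsgLib.CentTI (Nn Aa Dd ee)

universe u

/-- A group of order 315 has an element of order 15. -/
theorem exists_fifteen {D : Type u} [Group D] [Finite D] (h : Nat.card D = 315) : ∃ x : D, orderOf x = 15 := by
  haveI : Fact (Nat.Prime 3) := ⟨Nat.prime_three⟩
  haveI : Fact (Nat.Prime 5) := ⟨Nat.prime_five⟩
  obtain ⟨P⟩ : Nonempty (Sylow 5 D) := inferInstance
  have hP : Nat.card P = 5 := by
    rw [P.card_eq_multiplicity, h, show (315 : ℕ) = 5 * 63 by norm_num, Nat.factorization_mul (by norm_num) (by norm_num),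
      Finsupp.add_apply, Nat.Prime.factorization_self Nat.prime_five, Nat.factorization_eq_zero_of_not_dvd (by norm_num),
      add_zero, pow_one]
  set N := Subgroup.normalizer ((P : Subgroup D) : Set D)
  have hn5 : Nat.card (Sylow 5 D) = N.index := P.card_eq_index_normalizer
  have hmod : N.index % 5 = 1 := by
    have := card_sylow_modEq_one 5 D
    rw [hn5] at this
    exact this
  have hdiv : N.index ∣ 63 := by
    have h1 : N.index ∣ (P : Subgroup D).index := Subgroup.index_dvd_of_le Subgroup.le_normalizer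
    have h2 := (P : Subgroup D).card_mul_index
    rw [h, hP] at h2
    rw [show (63 : ℕ) = (P : Subgroup D).index by omega]
    exact h1
  have h3 : 3 ∣ Nat.card N := by
    have h4 := N.card_mul_index
    rw [h] at h4
    have h5 : N.index = 1 ∨ N.index = 21 := by
      have := Nat.le_of_dvd (by norm_num) hdiv
      interval_cases hi : N.index <;> simp_all
    rcases h5 with e | e <;> rw [e] at h4
    · exact ⟨105, by omega⟩
    · exact ⟨5, by omega⟩
  obtain ⟨y, hy⟩ := exists_prime_orderOf_dvd_card' (G := N) 3 h3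
  rw [← Subgroup.orderOf_coe] at hy
  set Y := Subgroup.zpowers (y : D) with hYdef
  have hY : Y ≤ N := Subgroup.zpowers_le.mpr y.2
  set K := (P : Subgroup D) ⊔ Y
  have hd : (P : Subgroup D) ⊓ Y = ⊥ :=
    Subgroup.inf_eq_bot_of_coprime (by rw [hP, Nat.card_zpowers, hy]; norm_num)
  have hK : Nat.card K = 15 := by
    have hset : (K : Set D) = ((P : Subgroup D) : Set D) * (Y : Set D) :=
      Subgroup.coe_mul_of_right_le_normalizer_left _ _ hY
    calc Nat.card K = Nat.card (↥(P : Subgroup D) × Y) := by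
          refine (Nat.card_eq_of_bijective (fun q : ↥(P : Subgroup D) × Y =>
            (⟨(q.1 : D) * q.2, Subgroup.mul_mem_sup q.1.2 q.2.2⟩ : K)) ⟨fun q q' e => ?_, fun x => ?_⟩).symm
          · exact Subgroup.mul_injective_of_disjoint (disjoint_iff.mpr hd) (congrArg Subtype.val e)
          · have hx : (x : D) ∈ ((P : Subgroup D) : Set D) * (Y : Set D) := hset ▸ x.2
            obtain ⟨a, ha, b, hb, e⟩ := Set.mem_mul.mp hx
            exact ⟨(⟨a, ha⟩, ⟨b, hb⟩), Subtype.ext e⟩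
      _ = 15 := by rw [Nat.card_prod, hP, Nat.card_zpowers, hy]
  obtain ⟨x, hx⟩ := CIT.Pair4.exists_orderOf_fifteen hK
  exact ⟨x, by rw [Subgroup.orderOf_coe, hx]⟩

variable {G : Type u} [Group G] [Finite G]

theorem odd_card_of_index {D : Subgroup G} (hD : Odd (Nat.card D)) {k : ℕ} (hk : D.index = 2 ^ k) :
    ∀ {m n : ℕ}, Nat.card G = 2 ^ m * n → Odd n → Nat.card D = n ∧ k = m := by
  intro m n hG hn
  have h := D.card_mul_index
  rw [hk, hG, mul_comm] at h
  have h1 : 2 ^ k ∣ 2 ^ m :=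
    ((Nat.coprime_two_left.mpr hn).pow_left k).dvd_of_dvd_mul_right (Dvd.intro _ h)
  have h2 : 2 ^ m ∣ 2 ^ k :=
    ((Nat.coprime_two_left.mpr hD).pow_left m).dvd_of_dvd_mul_right (Dvd.intro _ h.symm)
  have hkm : k = m := le_antisymm ((Nat.pow_dvd_pow_iff_le_right (by norm_num)).mp h1)
    ((Nat.pow_dvd_pow_iff_le_right (by norm_num)).mp h2)
  subst hkm
  exact ⟨Nat.eq_of_mul_eq_mul_left (Nat.two_pow_pos k) h, rfl⟩

/-- The trivial intersection case: an odd complement would exchange two points. -/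
theorem no_factor_ti [IsSimpleGroup G] (hna : ∃ a b : G, a * b ≠ b * a) (hC : CIT.IsCIT G) (hTI : CIT.IsTI G)
    {D : Subgroup G} (hD : Odd (Nat.card D)) {k : ℕ} (hk : D.index = 2 ^ k) : False := by
  classical
  haveI : Fact (Nat.Prime 2) := ⟨Nat.prime_two⟩
  obtain ⟨T⟩ : Nonempty (Sylow 2 G) := inferInstance
  obtain ⟨hH, hA, -⟩ := CIT.ti_hyp hna hC hTI T
  haveI := Fintype.ofFinite G
  haveI := Fintype.ofFinite (G ⧸ Nn T)
  obtain ⟨P, -, -, -⟩ := CentTI.exists_datum hH
  have hthree := P.isZ.2.2.1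
  obtain ⟨u, hu, huH⟩ := CentTI.exists_u hH
  have hu2 := CfsgLib.Involutions.mul_self_eq_one_of_orderOf hu
  have hu' := CfsgLib.Involutions.inv_eq_self_of_orderOf hu
  have heodd : Odd (ee T) := CentTI.card_D hH hu huH ▸ CentTI.D_odd hH huH
  obtain ⟨m, hm⟩ := IsPGroup.iff_card.mp T.2
  have hAc : Nat.card (Aa T) = 2 ^ m := by rw [hA, hm]
  have hm0 : m ≠ 0 := fun e => by
    obtain ⟨s, hs, hso⟩ := CentTI.exists_inv_mem hH
    have h := Subgroup.orderOf_dvd_natCard _ (show s ∈ (T : Subgroup G) from hs)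
    rw [hso, hm, e] at h
    norm_num at h
  have hidx : (Nn T).index = 2 ^ m + 1 := by rw [CentTI.index_N hH, hAc]
  obtain ⟨hDc, -⟩ := odd_card_of_index hD hk (m := m) (n := (2 ^ m + 1) * ee T)
    (by rw [← (Nn T).index_mul_card, hidx, CentTI.card_N hH, hAc]; ring)
    ((Even.add_one (even_two.pow_of_ne_zero hm0)).mul heodd)
  set x₀ : G ⧸ Nn T := ((1 : G) : G ⧸ Nn T) with hx₀
  have hfix₀ : ∀ g : G, g • x₀ = x₀ ↔ g ∈ Nn T := fun g => by
    rw [hx₀, MulAction.Quotient.smul_coe, smul_eq_mul, mul_one, QuotientGroup.eq, mul_one, inv_mem_iff]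
  set K : Subgroup G := D ⊓ Nn T
  have hKodd : Odd (Nat.card K) := hD.of_dvd_nat (Subgroup.card_dvd_of_le inf_le_left)
  -- the transversal
  let f : D ⧸ K.subgroupOf D → G ⧸ Nn T := Quotient.map' (fun d : D => (d : G)) fun a b h => by
    rw [QuotientGroup.leftRel_apply] at h ⊢
    exact h.2
  have hfinj : Function.Injective f := by
    intro a b h
    induction a using Quotient.inductionOn' with | h a =>
    induction b using Quotient.inductionOn' with | h b =>
    have h' : (a : G)⁻¹ * b ∈ Nn T := QuotientGroup.eq.mp h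
    exact Quotient.sound' (QuotientGroup.leftRel_apply.mpr ⟨(D.mul_mem (D.inv_mem a.2) b.2), h'⟩)
  have hKle : Nat.card K ≤ ee T := by
    refine Nat.le_of_dvd (Nat.pos_of_ne_zero fun e => absurd (e ▸ heodd) (by decide)) ?_
    have h : Nat.card K ∣ 2 ^ m * ee T := by
      rw [← hAc, ← CentTI.card_N hH]
      exact Subgroup.card_dvd_of_le inf_le_right
    exact (((Nat.coprime_two_left.mpr hKodd).pow_left m).symm).dvd_of_dvd_mul_left h
  have hcK : Nat.card (D ⧸ K.subgroupOf D) * Nat.card K = (2 ^ m + 1) * ee T := by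
    rw [← hDc, Subgroup.card_eq_card_quotient_mul_card_subgroup (K.subgroupOf D),
      Nat.card_congr (Subgroup.subgroupOfEquivOfLe (inf_le_left : K ≤ D)).toEquiv]
  have hquot : Nat.card (D ⧸ K.subgroupOf D) ≤ 2 ^ m + 1 :=
    hidx ▸ Nat.card_le_card_of_injective f hfinj
  have hKc : Nat.card K = ee T := by
    refine le_antisymm hKle (Nat.le_of_mul_le_mul_left
      (show (2 ^ m + 1) * ee T ≤ (2 ^ m + 1) * Nat.card K from ?_) (Nat.succ_pos (2 ^ m)))
    rw [← hcK]
    exact Nat.mul_le_mul_right _ hquot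
  have hfsurj : Function.Surjective f := by
    refine ((Nat.bijective_iff_injective_and_card f).mpr ⟨hfinj, ?_⟩).2
    rw [← Subgroup.index_eq_card (Nn T), hidx]
    rw [hKc] at hcK
    exact Nat.eq_of_mul_eq_mul_right (Nat.pos_of_ne_zero fun e => absurd (e ▸ heodd) (by decide)) hcK
  -- elements of `K`
  have hKA : ∀ x ∈ K, x ∈ Aa T → x = 1 := fun x hx hxA =>
    CIT.eq_one_of_mem_two_group T.2 (hA ▸ hxA) (hKodd.of_dvd_nat (Subgroup.orderOf_dvd_natCard K hx))
  have hcomm : ∀ x ∈ K, ∀ y ∈ K, x * y = y * x := by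
    intro x hx y hy
    obtain ⟨d, hd, a, ha, hxe⟩ := CentTI.decomp hH hu huH hx.2
    obtain ⟨d', hd', a', ha', hye⟩ := CentTI.decomp hH hu huH hy.2
    have e : (y * x)⁻¹ * (x * y) = a⁻¹ * (d⁻¹ * a'⁻¹ * d) * (d'⁻¹ * a * d') * a' := by
      rw [hxe, hye]
      calc (d' * a' * (d * a))⁻¹ * (d * a * (d' * a'))
          = a⁻¹ * d⁻¹ * a'⁻¹ * (d'⁻¹ * d) * a * d' * a' := by group
        _ = a⁻¹ * d⁻¹ * a'⁻¹ * (d * d'⁻¹) * a * d' * a' := by
          rw [show d'⁻¹ * d = d * d'⁻¹ from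
            ((show Commute d d' from CentTI.D_comm hH hu huH hd hd').inv_right.eq).symm]
        _ = _ := by group
    have hmem : (y * x)⁻¹ * (x * y) ∈ Aa T := by
      rw [e]
      refine mul_mem (mul_mem (mul_mem (inv_mem ha) ?_) ?_) ha'
      · simpa using CentTI.N_conj_A (inv_mem hd.1) (inv_mem ha')
      · simpa using CentTI.N_conj_A (inv_mem hd'.1) ha
    exact (inv_mul_eq_one.mp (hKA _ (mul_mem (inv_mem (mul_mem hy hx)) (mul_mem hx hy)) hmem)).symm
  obtain ⟨x, hxK, hx1⟩ : ∃ x ∈ K, x ≠ 1 := by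
    by_contra hh
    push Not at hh
    rw [(Subgroup.eq_bot_iff_forall K).mpr hh, Subgroup.card_bot] at hKc
    have := CentTI.two_le_ee hH
    omega
  obtain ⟨d, hd, a, ha, hxe⟩ := CentTI.decomp hH hu huH hxK.2
  have hd1 : d ≠ 1 := fun e => hx1 (hKA x hxK (by rw [hxe, e, one_mul]; exact ha))
  obtain ⟨s, hs⟩ := CentTI.exists_conj_coset hH hu huH hd hd1 ha
  rw [← hxe] at hs
  set b : G ⧸ Nn T := (((s : G) * u : G) : G ⧸ Nn T) with hb
  have hxb : x • b = b := by
    rw [hb, MulAction.Quotient.smul_coe, smul_eq_mul, QuotientGroup.eq, ← hs]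
    rw [show ((s : G) * d * (s : G)⁻¹ * ((s : G) * u))⁻¹ * ((s : G) * u) = u⁻¹ * d⁻¹ * u by group, hu']
    exact CentTI.conj_mem_of_Dd hu (inv_mem hd)
  have hb0 : b ≠ x₀ := fun e => huH (by
    rw [hb, hx₀, QuotientGroup.eq, mul_one, inv_mem_iff] at e
    rw [← inv_mul_cancel_left (s : G) u]
    exact mul_mem (inv_mem (hH.le s.2)) e)
  have hKx₀ : ∀ y ∈ K, y • x₀ = x₀ := fun y hy => (hfix₀ y).mpr hy.2
  have hfix2 : ∀ c : G ⧸ Nn T, x • c = c → c = x₀ ∨ c = b := fun c hc => by
    by_contra hne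
    push Not at hne
    exact hx1 (hthree x x₀ b c hb0.symm hne.2.symm hne.1.symm (hKx₀ x hxK) hxb hc)
  have hKb : ∀ y ∈ K, y • b = b := fun y hy => by
    refine (hfix2 (y • b) ?_).resolve_left fun e => hb0 (smul_left_cancel y (e.trans (hKx₀ y hy).symm))
    rw [← mul_smul, hcomm x hxK y hy, mul_smul, hxb]
  obtain ⟨q, hq⟩ := hfsurj b
  induction q using Quotient.inductionOn' with | h g =>
  have hgb : (g : G) • x₀ = b := by
    rw [hx₀, MulAction.Quotient.smul_coe, smul_eq_mul, mul_one]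
    exact hq
  have hgb' : (g : G) • b = x₀ := by
    have h1 : (g : G)⁻¹ * x * g ∈ K := by
      refine ⟨D.mul_mem (D.mul_mem (D.inv_mem g.2) hxK.1) g.2, (hfix₀ _).mp ?_⟩
      rw [mul_smul, mul_smul, hgb, hxb, ← hgb, inv_smul_smul]
    have h2 := hKb _ h1
    rw [mul_smul, mul_smul, inv_smul_eq_iff] at h2
    refine (hfix2 _ h2).resolve_right fun e => hb0 (smul_left_cancel (g : G) (e.trans hgb.symm))
  have hodd := hD.of_dvd_nat (Subgroup.orderOf_dvd_natCard D g.2)
  obtain ⟨l, hl⟩ := hodd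
  have hsq : ∀ j : ℕ, ((g : G) ^ (2 * j)) • x₀ = x₀ := by
    intro j
    induction j with
    | zero => simp
    | succ j ih =>
      rw [show 2 * (j + 1) = (1 + 1) + 2 * j by ring, pow_add, mul_smul, ih, pow_add, pow_one, mul_smul, hgb, hgb']
  have h1 : ((g : G) ^ orderOf (g : G)) • x₀ = b := by
    rw [hl, pow_succ', mul_smul, hsq, hgb]
  rw [pow_orderOf_eq_one, one_smul] at h1
  exact hb0 h1.symm

/-- No subgroup of odd order and 2-power index. -/
theorem no_factor [IsSimpleGroup G] (hna : ∃ a b : G, a * b ≠ b * a) (hC : CIT.IsCIT G) {A : Subgroup G}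
    (hA : IsEight A) {D : Subgroup G} (hD : Odd (Nat.card D)) {k : ℕ} (hk : D.index = 2 ^ k) : False := by
  rcases CIT.classification hna hC with ⟨hTI, -⟩ | ⟨F, iF, iFt, hF, ⟨e⟩⟩ | ⟨F, iF, iFt, hF, ⟨e⟩⟩
  · exact no_factor_ti hna hC hTI hD hk
  · have hq : Fintype.card F % 2 = 1 ∧ 16 ∣ Fintype.card F ^ 2 - 1 := by
      rcases hF with h | ⟨h7, hp, j, hj⟩
      · rw [h]; norm_num
      generalize Fintype.card F = q at h7 hp hj ⊢
      have hj3 : 3 ≤ j := by
        by_contra hlt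
        have : 2 ^ j ≤ 4 := by
          calc 2 ^ j ≤ 2 ^ 2 := Nat.pow_le_pow_right (by norm_num) (by omega)
            _ = 4 := by norm_num
        omega
      obtain ⟨i, rfl⟩ : ∃ i, j = i + 3 := ⟨j - 3, by omega⟩
      rw [pow_add] at hj
      refine ⟨hp.eq_two_or_odd.resolve_left (by omega), ?_⟩
      rw [show q ^ 2 - 1 = (q + 1) * (q - 1) by simpa using Nat.sq_sub_sq q 1]
      rcases hj with hj | hj
      · have e1 : q + 1 = 2 * (2 ^ i * 4 + 1) := by omega
        have e2 : q - 1 = 8 * 2 ^ i := by omega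
        rw [e1, e2]
        exact ⟨(2 ^ i * 4 + 1) * 2 ^ i, by ring⟩
      · obtain ⟨c, hc⟩ : ∃ c, 2 ^ i * 4 = c + 1 := ⟨2 ^ i * 4 - 1, by have := Nat.two_pow_pos i; omega⟩
        have e1 : q + 1 = 8 * 2 ^ i := by omega
        have e2 : q - 1 = 2 * c := by omega
        rw [e1, e2]
        exact ⟨2 ^ i * c, by ring⟩
    obtain ⟨U, n, -, ⟨eU⟩⟩ := PSLSylow.exists_dihedral (F := F) hq.1 hq.2
    haveI : Fact (Nat.Prime 2) := ⟨Nat.prime_two⟩
    obtain ⟨P, hP⟩ := ((isPGroup_of_exp hA.2).map e.toMonoidHom).exists_le_sylow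
    let eP : (P : Subgroup (Matrix.ProjectiveSpecialLinearGroup (Fin 2) F)) ≃* DihedralGroup n :=
      (Sylow.equiv P U).trans eU
    have hB : IsEight ((A.map e.toMonoidHom).subgroupOf (P : Subgroup _)) := by
      refine ⟨by rw [Nat.card_congr (Subgroup.subgroupOfEquivOfLe hP).toEquiv,
        Subgroup.card_map_of_injective e.injective, hA.1], fun x hx => Subtype.ext ?_⟩
      obtain ⟨a, ha, hax⟩ := hx
      rw [SubmonoidClass.coe_pow]
      show ((P : Subgroup (Matrix.ProjectiveSpecialLinearGroup (Fin 2) F)).subtype x) ^ 2 = 1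
      rw [← hax, ← map_pow, hA.2 a ha, map_one]
    exact no_eight_dihedral eP hB
  · have hc : Nat.card G = 2 ^ 6 * 315 := by rw [Nat.card_congr e.toEquiv, EppoAlmost.card_psl_three_four hF]; norm_num
    obtain ⟨hDc, -⟩ := odd_card_of_index hD hk hc (by decide)
    obtain ⟨x, hx⟩ := exists_fifteen hDc
    rw [← Subgroup.orderOf_coe] at hx
    have h3 : orderOf ((x : G) ^ 5) = 3 := by
      rw [orderOf_pow' _ (by norm_num), hx]; norm_num
    have h5 : orderOf ((x : G) ^ 3) = 5 := by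
      rw [orderOf_pow' _ (by norm_num), hx]; norm_num
    exact absurd (CITExt.prime_eq e hF Nat.prime_three (by norm_num) Nat.prime_five h3 h5 (Commute.pow_pow_self (x : G) 5 3))
      (by norm_num)

end CfsgLib.ChzTwoNil
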