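import Cfsg.Agent.Lib.ChzTwoNil.Basic
import Cfsg.Agent.Lib.UnitaryCent.Concrete
import Cfsg.Agent.Lib.Basic
import Cfsg.Agent.S0516
import Cfsg.Agent.S0483
import Cfsg.Agent.S0486
import Cfsg.Agent.S1213

/-!
The simple groups of two-rank at most two in which involution centralisers have normal 2-complements.

Blueprint: `blueprint/chz/S3214.md`, step 1.
-/

set_option autoImplicit false
set_option linter.unusedSectionVars false
set_option linter.style.haveILetI false

namespace CfsgLib.ChzTwoNil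

open Cfsg Subgroup
open scoped MatrixGroups

universe u

/-- A 2-nilpotent group has no normal subgroup of 2-power index of even order without subgroups of index two. -/
theorem not_perfect_two {C : Type*} [Group C] [Finite C] (hC : HasNormalPComplement 2 C) (K : Subgroup C)
    {a : ℕ} (ha : K.index = 2 ^ a) (hK : ∀ H : Subgroup K, H.index ≠ 2) (h2 : 2 ∣ Nat.card K) [K.Normal] : False := by
  haveI : Fact (Nat.Prime 2) := ⟨Nat.prime_two⟩
  obtain ⟨P, N, hNn, hc⟩ := hC
  haveI := hNn
  obtain ⟨k, hk⟩ := IsPGroup.iff_card.mp P.2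
  have hodd : Odd (Nat.card N) := by
    refine Nat.not_even_iff_odd.mp fun he => P.not_dvd_index ?_
    rw [hc.index_eq_card]
    exact he.two_dvd
  have hNi : N.index = 2 ^ k := hc.symm.index_eq_card.trans hk
  have hNK : N ≤ K := by
    intro x hx
    obtain ⟨e, he⟩ := exists_pow_eq_self_of_coprime (n := 2 ^ a) (x := x)
      ((Nat.coprime_two_left.mpr (hodd.of_dvd_nat (Subgroup.orderOf_dvd_natCard N hx))).pow_left a)
    rw [← he, ← ha]
    exact K.pow_mem (Subgroup.pow_index_mem K x) e
  have hcard : Nat.card (N.subgroupOf K) = Nat.card N := Nat.card_congr (Subgroup.subgroupOfEquivOfLe hNK).toEquiv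
  have hidx : (N.subgroupOf K).index ∣ 2 ^ k := by
    rw [← hNi]
    exact Subgroup.relIndex_dvd_index_of_le hNK
  obtain ⟨j, -, hj⟩ := (Nat.dvd_prime_pow Nat.prime_two).mp hidx
  obtain ⟨j', rfl⟩ : ∃ j', j = j' + 1 := by
    refine Nat.exists_eq_succ_of_ne_zero fun h0 => ?_
    rw [h0, pow_zero, Subgroup.index_eq_one] at hj
    rw [hj, Subgroup.card_top] at hcard
    exact Nat.not_even_iff_odd.mpr hodd (hcard ▸ even_iff_two_dvd.mpr h2)
  haveI : (N.subgroupOf K).Normal := inferInstance
  obtain ⟨M, hM⟩ := Sylow.exists_subgroup_card_pow_prime (G := K ⧸ N.subgroupOf K) 2 (n := j')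
    (by rw [← Subgroup.index_eq_card, hj]; exact pow_dvd_pow 2 (Nat.le_succ _))
  refine hK (M.comap (QuotientGroup.mk' (N.subgroupOf K))) ?_
  rw [Subgroup.index_comap_of_surjective _ (QuotientGroup.mk'_surjective _)]
  have h1 := Subgroup.card_mul_index M
  rw [hM, ← Subgroup.index_eq_card, hj, pow_succ] at h1
  exact Nat.eq_of_mul_eq_mul_left (Nat.two_pow_pos j') h1

/-- The model group of order `320` is not 2-nilpotent. -/
theorem not_two_nilpotent_ext {C : Type u} [Group C] [Finite C] {D : Subgroup C} {x : C}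
    (h : UnitaryCent.Ext C D x) : ¬ HasNormalPComplement 2 C := by
  haveI : Fact (Nat.Prime 2) := ⟨Nat.prime_two⟩
  rintro ⟨P, N, hNn, hc⟩
  haveI := hNn
  haveI := h.normal
  obtain ⟨φ, hφ, h5⟩ := h.hyp
  obtain ⟨k, hk⟩ := IsPGroup.iff_card.mp P.2
  have hNi : N.index = 2 ^ k := hc.symm.index_eq_card.trans hk
  have hodd : Odd (Nat.card N) := by
    refine Nat.not_even_iff_odd.mp fun he => P.not_dvd_index ?_
    rw [hc.index_eq_card]
    exact he.two_dvd
  have hxN : x ∈ N := by
    obtain ⟨e, he⟩ := exists_pow_eq_self_of_coprime (n := 2 ^ k) (x := x)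
      ((show Nat.Coprime 2 5 by norm_num).pow_left k |>.coprime_dvd_right (orderOf_dvd_of_pow_eq_one h.five))
    rw [← he, ← hNi]
    exact N.pow_mem (Subgroup.pow_index_mem N x) e
  have hdisj : Disjoint N D := by
    rw [disjoint_iff, ← Subgroup.card_eq_one]
    exact Nat.eq_one_of_dvd_coprimes
      (show Nat.Coprime (Nat.card N) 64 from (Nat.coprime_two_right.mpr hodd).pow_right 6)
      (Subgroup.card_dvd_of_le inf_le_left) (h5.card ▸ Subgroup.card_dvd_of_le inf_le_right)
  have hall : Subgroup.center D = ⊤ := (Subgroup.eq_top_iff' _).mpr fun g => (h5.fix g).mp (Subtype.ext (by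
    rw [hφ]
    have hcomm := Subgroup.commute_of_normal_of_disjoint N D inferInstance inferInstance hdisj x g.1 hxN g.2
    rw [hcomm.eq, mul_inv_cancel_right]))
  have h4 := h5.card_center
  rw [hall, Subgroup.card_top, h5.card] at h4
  omega

variable {G : Type u} [Group G] [Finite G] [IsSimpleGroup G]

theorem no_index_two (hG : ¬ IsMulCommutative G) (H : Subgroup G) : H.index ≠ 2 := by
  intro hH
  haveI : Fact (Nat.Prime 2) := ⟨Nat.prime_two⟩
  rcases (Subgroup.normal_of_index_eq_two hH).eq_bot_or_eq_top with h | h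
  · rw [h, Subgroup.index_bot] at hH
    haveI := isCyclic_of_prime_card hH
    exact hG ⟨⟨fun a b => (IsCyclic.commGroup (α := G)).mul_comm a b⟩⟩
  · rw [h, Subgroup.index_top] at hH
    omega

/-- The rank two case. -/
theorem rank_two (hG : ¬ IsMulCommutative G) (hN : NC G) (h2 : PRankLE 2 2 G) :
    (∃ (F : Type) (_ : Field F) (_ : Fintype F), 3 < Fintype.card F ∧
        Nonempty (G ≃* Matrix.ProjectiveSpecialLinearGroup (Fin 2) F)) ∨
      Nonempty (G ≃* ↥(alternatingGroup (Fin 7))) := by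
  haveI : Fact (Nat.Prime 2) := ⟨Nat.prime_two⟩
  letI : Fintype (GaloisField 2 4) := Fintype.ofFinite _
  have h16 : Fintype.card (GaloisField 2 4) = 16 := by
    rw [← Nat.card_eq_fintype_card, GaloisField.card 2 4 (by norm_num)]
    norm_num
  obtain ⟨P⟩ : Nonempty (Sylow 2 (Cfsg.PSU 3 (GaloisField 2 4) 4)) := inferInstance
  obtain ⟨S⟩ : Nonempty (Sylow 2 G) := inferInstance
  have exists_inv : ∀ m : ℕ, Nat.card S = m → 2 ∣ m → ∃ t : G, orderOf t = 2 := fun m hm hd =>
    exists_prime_orderOf_dvd_card' 2 ((hm ▸ hd : 2 ∣ Nat.card S).trans (Subgroup.card_subgroup_dvd_card _))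
  have qd : IsQuasiDihedral (S : Subgroup G) ∨ IsWreathed (S : Subgroup G) → False := fun hS => by
    obtain ⟨t, ht⟩ : ∃ t : G, orderOf t = 2 := by
      rcases hS with ⟨n, hn, hc, -⟩ | ⟨n, hn, hc, -⟩
      · exact exists_inv _ hc (dvd_pow_self 2 (by omega))
      · exact exists_inv _ hc (dvd_pow_self 2 (by omega))
    obtain ⟨R, -, ⟨K, hKn, ⟨a, ha⟩, hK2, hKP⟩, -⟩ :=
      Cfsg.Agent.S1213.result S hS (no_index_two hG) t ht
    obtain ⟨Q⟩ : Nonempty (Sylow 2 K) := inferInstance
    obtain ⟨m, hm, ⟨e⟩⟩ := hKP Q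
    haveI : NeZero (2 ^ m) := ⟨pow_ne_zero _ two_ne_zero⟩
    refine @not_perfect_two _ _ _ (hN t ht) K a ha hK2 ?_ hKn
    refine Dvd.dvd.trans ?_ (Subgroup.card_subgroup_dvd_card (Q : Subgroup K))
    rw [Nat.card_congr e.toEquiv, Nat.card_eq_fintype_card, QuaternionGroup.card]
    exact Dvd.dvd.mul_right (by norm_num) _
  rcases Cfsg.Agent.S0516.result hG h2 S h16 P with ⟨n, hn, he⟩ | hqd | hwr | he
  · have hperf : commutator G = ⊤ := by
      rcases (Subgroup.Normal.eq_bot_or_eq_top (inferInstance : (commutator G).Normal)) with h | h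
      · exact absurd ⟨⟨fun a b => commutatorElement_eq_one_iff_mul_comm.mp ((Subgroup.mem_bot).mp
          (h ▸ Subgroup.commutator_mem_commutator (Subgroup.mem_top a) (Subgroup.mem_top b)))⟩⟩ hG
      · exact h
    haveI : Group.IsPerfect G := ⟨hperf⟩
    obtain ⟨t, ht⟩ : ∃ t : G, orderOf t = 2 := by
      obtain ⟨e⟩ := he
      haveI : NeZero n := ⟨by omega⟩
      refine exists_inv _ rfl ?_
      show 2 ∣ Nat.card (S : Subgroup G)
      rw [Nat.card_congr e.toEquiv, DihedralGroup.nat_card]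
      exact dvd_mul_right 2 n
    have hbot : oddCore G = ⊥ := by
      rcases (inferInstance : (oddCore G).Normal).eq_bot_or_eq_top with h | h
      · exact h
      · have h1 := CfsgLib.odd_card_oddCore (G := G)
        rw [h, Subgroup.card_top] at h1
        exact absurd (even_iff_two_dvd.mpr (ht ▸ orderOf_dvd_natCard t)) (Nat.not_even_iff_odd.mpr h1)
    let q : G ⧸ oddCore G ≃* G := (QuotientGroup.quotientMulEquivOfEq hbot).trans QuotientGroup.quotientBot
    rcases Cfsg.Agent.S0483.result S n hn he with ⟨F, iF, iFt, -, h3, ⟨e⟩⟩ | h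
    · exact Or.inl ⟨F, iF, iFt, h3, ⟨q.symm.trans e⟩⟩
    · obtain ⟨e⟩ := h
      exact Or.inr ⟨q.symm.trans e⟩
  · exact (qd (Or.inl hqd)).elim
  · exact (qd (Or.inr hwr)).elim
  · obtain ⟨Φ⟩ := Cfsg.Agent.S0486.result h16 S P he
    obtain ⟨t, D, x, ht, hext⟩ := UnitaryCent.exists_concrete (F := GaloisField 2 4) h16
    have ht' : orderOf (Φ.symm t) = 2 := by rw [MulEquiv.orderOf_eq]; exact ht
    have hmap : (centralizer ({t} : Set (Cfsg.PSU 3 (GaloisField 2 4) 4))).map Φ.symm.toMonoidHom =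
        centralizer ({Φ.symm t} : Set G) := by
      ext b
      obtain ⟨b, rfl⟩ := Φ.symm.surjective b
      rw [Subgroup.mem_map_equiv, MulEquiv.symm_apply_apply, mem_centralizer_singleton_iff,
        mem_centralizer_singleton_iff, ← map_mul, ← map_mul, Φ.symm.injective.eq_iff]
    exact (not_two_nilpotent_ext (hext.transport
      (((centralizer ({t} : Set _)).equivMapOfInjective Φ.symm.toMonoidHom Φ.symm.injective).trans
        (MulEquiv.subgroupCongr hmap))) (hN _ ht')).elim

end CfsgLib.ChzTwoNil
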